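import Mathlib

/-! Linear algebra for zeta functions: logarithmic derivative of `det (1 - tA)`, adjoint pairs for a
perfect pairing. -/

set_option autoImplicit false
universe u v w

noncomputable section

namespace Groth.Agent.WC97

open Matrix

section jacobi

variable {R S : Type*} [CommRing R] [CommRing S] [Algebra R S] {n : Type*} [Fintype n] [DecidableEq n]

/-- derivative of a finite product -/
theorem derivation_prod (D : Derivation R S S) {ι : Type*} [DecidableEq ι] (s : Finset ι) (f : ι → S) :
    D (∏ i ∈ s, f i) = ∑ j ∈ s, (∏ i ∈ s.erase j, f i) * D (f j) := by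
  induction s using Finset.induction_on with
  | empty => simp
  | insert a s ha ih =>
    rw [Finset.prod_insert ha, Derivation.leibniz, ih, Finset.sum_insert ha, Finset.erase_insert ha, smul_eq_mul,
      smul_eq_mul, Finset.mul_sum, add_comm]
    congr 1
    refine Finset.sum_congr rfl fun j hj => ?_
    rw [Finset.erase_insert_of_ne (by rintro rfl; exact ha hj), Finset.prod_insert (fun h => ha (Finset.mem_erase.1 h).2)]
    ring

/-- Jacobi's formula -/
theorem derivation_det (D : Derivation R S S) (M : Matrix n n S) :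
    D M.det = trace (M.adjugate * M.map D) := by
  have h1 : ∀ j, M.cramer (fun i => D (M i j)) j = (M.updateCol j fun i => D (M i j)).det :=
    fun j => cramer_apply M _ j
  have h2 : trace (M.adjugate * M.map D) = ∑ j, (M.updateCol j fun i => D (M i j)).det := by
    simp only [trace, diag_apply, Matrix.mul_apply, Matrix.map_apply]
    refine Finset.sum_congr rfl fun j _ => ?_
    rw [← h1, cramer_eq_adjugate_mulVec]
    rfl
  rw [h2, det_apply, map_sum]
  simp only [det_apply]
  rw [Finset.sum_comm]
  refine Finset.sum_congr rfl fun σ _ => ?_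
  rw [Derivation.map_smul_of_tower, derivation_prod, Finset.smul_sum]
  refine Finset.sum_congr rfl fun j _ => ?_
  congr 1
  rw [← Finset.prod_erase_mul Finset.univ _ (Finset.mem_univ j), updateCol_self]
  congr 1
  exact Finset.prod_congr rfl fun i hi => by rw [updateCol_ne (Finset.ne_of_mem_erase hi)]

end jacobi

section series

open PowerSeries

variable {K : Type*} [Field K]

theorem eq_zero_of_derivative_eq [CharZero K] {w g : K⟦X⟧} (h : d⁄dX K w = g * w)
    (h0 : constantCoeff w = 0) : w = 0 := by
  ext m
  induction m using Nat.strong_induction_on with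
  | _ m ih =>
    rw [map_zero]
    rcases m with _ | m
    · rw [coeff_zero_eq_constantCoeff_apply, h0]
    · have := congrArg (coeff m) h
      rw [coeff_derivative, PowerSeries.coeff_mul, Finset.sum_eq_zero] at this
      · exact (mul_eq_zero.1 this).resolve_right (Nat.cast_add_one_ne_zero m)
      · intro ij hij
        rw [ih ij.2 (by have := Finset.HasAntidiagonal.mem_antidiagonal.1 hij; omega), map_zero, mul_zero]

theorem ext_logDeriv [CharZero K] {y z g : K⟦X⟧} (hy : d⁄dX K y = g * y) (hz : d⁄dX K z = g * z)
    (h0 : constantCoeff y = constantCoeff z) : y = z := by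
  refine sub_eq_zero.1 (eq_zero_of_derivative_eq (g := g) ?_ (by rw [map_sub, h0, sub_self]))
  rw [map_sub, hy, hz, mul_sub]

theorem logDeriv_prod {ι : Type*} (s : Finset ι) (y g : ι → K⟦X⟧)
    (h : ∀ i ∈ s, d⁄dX K (y i) = g i * y i) :
    d⁄dX K (∏ i ∈ s, y i) = (∑ i ∈ s, g i) * ∏ i ∈ s, y i := by
  classical
  rw [derivation_prod, Finset.sum_mul]
  refine Finset.sum_congr rfl fun j hj => ?_
  rw [h j hj, ← Finset.mul_prod_erase s y hj]
  ring

/-- the series `∑ tr(A^(m+1)) t^m` -/
def trSeries {V : Type*} [AddCommGroup V] [Module K V] (A : Module.End K V) : K⟦X⟧ :=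
  PowerSeries.mk fun m => LinearMap.trace K V (A ^ (m + 1))

theorem derivative_charpoly_reverse {V : Type*} [AddCommGroup V] [Module K V] [FiniteDimensional K V]
    (A : Module.End K V) :
    d⁄dX K ((A.charpoly.reverse : Polynomial K) : K⟦X⟧) =
      (-trSeries A) * ((A.charpoly.reverse : Polynomial K) : K⟦X⟧) := by
  classical
  let b := Module.finBasis K V
  let M := LinearMap.toMatrix b b A
  have hM : A.charpoly.reverse = M.charpolyRev := by
    rw [← LinearMap.charpoly_toMatrix A b, Matrix.reverse_charpoly]
  let P : Matrix _ _ K⟦X⟧ := 1 - (PowerSeries.X : K⟦X⟧) • M.map PowerSeries.C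
  have hdet : ((A.charpoly.reverse : Polynomial K) : K⟦X⟧) = P.det := by
    rw [hM, Matrix.charpolyRev, ← Polynomial.coeToPowerSeries.ringHom_apply, RingHom.map_det]
    congr 1
    ext i j
    by_cases hij : i = j
    · subst hij; simp [P]; ring
    · simp [P, hij]; ring
  let G : Matrix _ _ K⟦X⟧ := Matrix.of fun i j => PowerSeries.mk fun m => (M ^ m) i j
  have hPG : P * G = 1 := by
    ext i j m
    rw [show P = 1 - (PowerSeries.X : K⟦X⟧) • M.map PowerSeries.C from rfl, Matrix.sub_mul, Matrix.one_mul,
      Matrix.smul_mul]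
    simp only [Matrix.sub_apply, Matrix.smul_apply,
      smul_eq_mul, Matrix.mul_apply, map_sub, G, Matrix.of_apply, Matrix.map_apply]
    rcases m with _ | m
    · simp [Matrix.one_apply, apply_ite]
    · simp only [PowerSeries.coeff_succ_X_mul, map_sum, PowerSeries.coeff_C_mul, PowerSeries.coeff_mk,
        pow_succ', Matrix.mul_apply, sub_self]
      by_cases hij : i = j <;> simp [Matrix.one_apply, hij, PowerSeries.coeff_one]
  have hadj : P.adjugate = P.det • G := by
    calc P.adjugate = P.adjugate * (P * G) := by rw [hPG, Matrix.mul_one]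
      _ = P.det • G := by rw [← Matrix.mul_assoc, Matrix.adjugate_mul, Matrix.smul_mul, Matrix.one_mul]
  have hDP : P.map (d⁄dX K) = -(M.map PowerSeries.C) := by
    ext i j : 1
    simp [P, Matrix.one_apply, apply_ite (d⁄dX K), PowerSeries.derivative_X, PowerSeries.derivative_C]
  have htr : trace (G * M.map PowerSeries.C) = trSeries A := by
    ext m
    rw [trSeries, PowerSeries.coeff_mk, LinearMap.trace_eq_matrix_trace K b]
    have hp : LinearMap.toMatrix b b (A ^ (m + 1)) = M ^ (m + 1) := by
      show LinearMap.toMatrixAlgEquiv b (A ^ (m + 1)) = _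
      rw [map_pow]; rfl
    rw [hp, pow_succ]
    simp only [trace, diag_apply, Matrix.mul_apply, map_sum, Matrix.map_apply, G, Matrix.of_apply,
      PowerSeries.coeff_mul_C, PowerSeries.coeff_mk]
  rw [hdet, derivation_det, hadj, hDP, Matrix.mul_neg, trace_neg, Matrix.smul_mul, trace_smul, htr, smul_eq_mul]
  ring

theorem constantCoeff_charpoly_reverse {V : Type*} [AddCommGroup V] [Module K V] [FiniteDimensional K V]
    (A : Module.End K V) : constantCoeff ((A.charpoly.reverse : Polynomial K) : K⟦X⟧) = 1 := by
  rw [Polynomial.constantCoeff_coe, Polynomial.coeff_zero_reverse, A.charpoly_monic.leadingCoeff]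

/-- rationality descends along field extensions -/
theorem rational_descent {k : Type*} [Field k] [Algebra k K] (z : k⟦X⟧) {P Q : Polynomial K} (hQ : Q ≠ 0)
    (h : PowerSeries.map (algebraMap k K) z * (Q : K⟦X⟧) = (P : K⟦X⟧)) :
    ∃ P' Q' : Polynomial k, Q' ≠ 0 ∧ z * (Q' : k⟦X⟧) = (P' : k⟦X⟧) := by
  obtain ⟨j, hj⟩ : ∃ j, Q.coeff j ≠ 0 := by
    by_contra hh; push Not at hh; exact hQ (Polynomial.ext (by simpa using hh))
  obtain ⟨l, hl⟩ := Module.Projective.exists_dual_ne_zero k hj
  let red : Polynomial K → Polynomial k := fun R => ∑ i ∈ R.support, Polynomial.monomial i (l (R.coeff i))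
  have hred : ∀ R i, (red R).coeff i = l (R.coeff i) := fun R i => by
    simp only [red, Polynomial.finsetSum_coeff, Polynomial.coeff_monomial, Finset.sum_ite_eq']
    split_ifs with hi
    · rfl
    · rw [Polynomial.notMem_support_iff.1 hi, map_zero]
  refine ⟨red P, red Q, fun h0 => hl (by rw [← hred, h0, Polynomial.coeff_zero]), ?_⟩
  ext m
  have := congrArg (fun s => l (PowerSeries.coeff m s)) h
  simp only [PowerSeries.coeff_mul, Polynomial.coeff_coe, hred, map_sum, PowerSeries.coeff_map] at this ⊢
  rw [← this]
  refine Finset.sum_congr rfl fun ij _ => ?_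
  rw [← Algebra.smul_def, map_smul, smul_eq_mul]

end series

section adjoint

variable {K : Type u} [Field K] {V : Type v} {W : Type w} [AddCommGroup V] [Module K V] [AddCommGroup W]
  [Module K W] [FiniteDimensional K V]

theorem exists_dual_basis (B : V →ₗ[K] W →ₗ[K] K) [B.IsPerfPair] {ι : Type*} [Fintype ι] [DecidableEq ι]
    (e : Module.Basis ι K V) :
    ∃ f : Module.Basis ι K W, ∀ i j, B (e i) (f j) = if i = j then 1 else 0 := by
  refine ⟨e.dualBasis.map B.flip.toPerfPair.symm, fun i j => ?_⟩
  have := LinearMap.apply_symm_toPerfPair_self B.flip (e.dualBasis j)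
  rw [Module.Basis.map_apply]
  refine (LinearMap.congr_fun this (e i)).trans ?_
  simp [Finsupp.single_apply, eq_comm]

theorem adjoint_pair [FiniteDimensional K W] (B : V →ₗ[K] W →ₗ[K] K) [B.IsPerfPair] (A : Module.End K V)
    (A' : Module.End K W) (c : K) (h : ∀ v w, B (A v) (A' w) = c * B v w) :
    LinearMap.det A' * LinearMap.det A = c ^ Module.finrank K V ∧
    LinearMap.det A • A'.charpoly.reverse =
      (-1 : Polynomial K) ^ Module.finrank K V * A.charpoly.comp (Polynomial.C c * Polynomial.X) ∧
    Module.finrank K W = Module.finrank K V := by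
  classical
  let e := Module.finBasis K V
  obtain ⟨f, hf⟩ := exists_dual_basis B e
  let M := LinearMap.toMatrix e e A
  let N := LinearMap.toMatrix f f A'
  have hMN : Mᵀ * N = c • (1 : Matrix _ _ K) := by
    ext i j
    have h1 := h (e i) (f j)
    rw [← e.sum_repr (A (e i)), ← f.sum_repr (A' (f j))] at h1
    simp only [map_sum, map_smul, LinearMap.sum_apply, LinearMap.smul_apply, hf, smul_eq_mul, mul_ite, mul_one,
      mul_zero, Finset.sum_ite_eq', Finset.mem_univ, if_true] at h1
    rw [Matrix.mul_apply, Matrix.smul_apply, Matrix.one_apply, smul_eq_mul, mul_ite, mul_one, mul_zero, ← h1]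
    refine Finset.sum_congr rfl fun l _ => ?_
    simp [M, N, LinearMap.toMatrix_apply, mul_comm]
  have hfr : Module.finrank K W = Module.finrank K V := by
    rw [Module.finrank_eq_card_basis f, Fintype.card_fin]
  refine ⟨?_, ?_, hfr⟩
  · rw [← LinearMap.det_toMatrix e A, ← LinearMap.det_toMatrix f A', ← Matrix.det_transpose (LinearMap.toMatrix e e A),
      mul_comm, ← Matrix.det_mul, hMN, Matrix.det_smul, Matrix.det_one, mul_one, Fintype.card_fin]
  · rw [← LinearMap.det_toMatrix e A, ← LinearMap.charpoly_toMatrix A' f, ← LinearMap.charpoly_toMatrix A e,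
      Matrix.reverse_charpoly, Matrix.charpolyRev, Polynomial.smul_eq_C_mul, ← Matrix.det_transpose (LinearMap.toMatrix e e A)]
    show Polynomial.C (Mᵀ.det) * (1 - (Polynomial.X : Polynomial K) • N.map Polynomial.C).det = _ * M.charpoly.comp _
    rw [RingHom.map_det, RingHom.mapMatrix_apply, ← Matrix.det_mul, Matrix.mul_sub, Matrix.mul_one, Matrix.mul_smul,
      ← Matrix.map_mul, hMN, Matrix.charpoly, ← Polynomial.coe_compRingHom_apply, RingHom.map_det]
    rw [← Matrix.det_transpose (Mᵀ.map Polynomial.C - _)]
    rw [show (Mᵀ.map Polynomial.C - (Polynomial.X : Polynomial K) • (c • (1 : Matrix _ _ K)).map Polynomial.C)ᵀ =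
      -((Polynomial.compRingHom (Polynomial.C c * Polynomial.X)).mapMatrix M.charmatrix) from ?_]
    · rw [Matrix.det_neg, Fintype.card_fin]
    ext i j : 1
    by_cases hij : i = j
    · subst hij
      simp [Matrix.charmatrix_apply_eq]
    · simp [Matrix.charmatrix_apply_ne _ _ _ hij, Matrix.one_apply, hij, Ne.symm hij]

/-- a skew-symmetric perfect pairing lives on an even-dimensional space -/
theorem even_finrank_of_skew [CharZero K] (B : V →ₗ[K] V →ₗ[K] K) [B.IsPerfPair] (h : ∀ v w, B w v = -B v w) :
    Even (Module.finrank K V) := by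
  classical
  let e := Module.finBasis K V
  obtain ⟨f, hf⟩ := exists_dual_basis B e
  let P : Matrix _ _ K := Matrix.of fun i j => B (e i) (e j)
  have hP : P = f.toMatrix e := by
    ext i j
    show B (e i) (e j) = f.repr (e j) i
    conv_lhs => rw [← f.sum_repr (e j)]
    simp only [map_sum, map_smul, smul_eq_mul, hf, mul_ite, mul_one, mul_zero, Finset.sum_ite_eq, Finset.mem_univ, if_true]
  have hdet : P.det ≠ 0 := by
    intro h0
    have := congrArg Matrix.det (Module.Basis.toMatrix_mul_toMatrix_flip f e)
    rw [Matrix.det_mul, ← hP, h0, zero_mul, Matrix.det_one] at this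
    exact zero_ne_one this
  have ht : Pᵀ = -P := by ext i j; exact h (e i) (e j)
  have h2 := congrArg Matrix.det ht
  rw [Matrix.det_transpose, Matrix.det_neg, Fintype.card_fin] at h2
  by_contra hodd
  rw [Nat.not_even_iff_odd] at hodd
  rw [hodd.neg_one_pow, neg_one_mul] at h2
  exact hdet (CharZero.eq_neg_self_iff.1 h2)

end adjoint

end Groth.Agent.WC97
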