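import Groth.Agent.WC97.Var
import Mathlib.LinearAlgebra.Trace

/-! Products of two varieties, the class of a graph, and the trace formula. -/

set_option autoImplicit false
universe u v

noncomputable section

open CategoryTheory AlgebraicGeometry WeilCoh

namespace Groth.Agent.WC97

variable {k : Type u} [Field k] [IsAlgClosed k] {K : Type v} [Field K] [CharZero K] (T : Theory k K)

/-- the sign of graded commutation -/
def sgn (i j : ℤ) : K := (-1) ^ (i.natAbs * j.natAbs)

theorem pull_pull {X Y Z : Var k} (f : X ⟶ Y) (g : Y ⟶ Z) (a : T.H Z) :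
    T.pull f (T.pull g a) = T.pull (f ≫ g) a := by rw [T.pull_comp]; rfl

theorem pull_id' {X : Var k} (a : T.H X) : T.pull (𝟙 X) a = a := by rw [T.pull_id]; rfl

theorem comm_hom {X : Var k} {i j : ℤ} {a b : T.H X} (ha : a ∈ T.gr X i) (hb : b ∈ T.gr X j) :
    a * b = (sgn i j : K) • (b * a) := T.gradedComm X i j a b ha hb

omit [CharZero K] in
theorem sgn_even_right (i : ℤ) (n : ℤ) : (sgn i (2 * n) : K) = 1 := by
  rw [sgn]
  exact Even.neg_one_pow ((Int.natAbs_even.2 (even_two_mul n)).mul_left _)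

theorem comm_even {X : Var k} {i n : ℤ} {a b : T.H X} (ha : a ∈ T.gr X i) (hb : b ∈ T.gr X (2 * n)) :
    a * b = b * a := by
  rw [comm_hom T ha hb, sgn_even_right, one_smul]

section prod

variable {X Y Q : Var k} {p : Q ⟶ X} {q : Q ⟶ Y}

include T in
theorem dim_prod (hQ : IsProd p q) : dim Q.obj.left = dim X.obj.left + dim Y.obj.left := by
  obtain ⟨a, ha, ha'⟩ := exists_tr_eq T X 1
  obtain ⟨b, hb, hb'⟩ := exists_tr_eq T Y 1
  have h := T.tr_prod p q hQ a b ha hb
  rw [ha', hb', one_mul] at h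
  by_contra hne
  refine one_ne_zero (α := K) (h.symm.trans ?_)
  exact tr_mul_eq_zero T (T.pull_mem p _ a ha) (T.pull_mem q _ b hb) (by unfold D; omega)

theorem tr_pull_mul_pull (hQ : IsProd p q) {i j : ℤ} {a : T.H X} {b : T.H Y}
    (ha : a ∈ T.gr X i) (hb : b ∈ T.gr Y j) :
    T.tr Q (T.pull p a * T.pull q b) = T.tr X a * T.tr Y b := by
  by_cases hi : i = D X
  · by_cases hj : j = D Y
    · subst hi hj; exact T.tr_prod p q hQ a b ha hb
    · rw [T.tr_vanish Y j b hb hj, mul_zero,
        tr_mul_eq_zero T (T.pull_mem p i a ha) (T.pull_mem q j b hb) (by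
          have := dim_prod T hQ; unfold D at *; omega)]
  · rw [T.tr_vanish X i a ha hi, zero_mul]
    by_cases hij : i + j = D Q
    · have hd := dim_prod T hQ
      rcases lt_or_gt_of_ne hi with h | h
      · have : b ∈ (⊥ : Submodule K (T.H Y)) := T.vanish Y j (Or.inr (by unfold D at *; omega)) ▸ hb
        rw [(Submodule.mem_bot K).1 this, map_zero, mul_zero, map_zero]
      · have : a ∈ (⊥ : Submodule K (T.H X)) := T.vanish X i (Or.inr (by unfold D at *; omega)) ▸ ha
        rw [(Submodule.mem_bot K).1 this, map_zero, zero_mul, map_zero]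
    · exact tr_mul_eq_zero T (T.pull_mem p i a ha) (T.pull_mem q j b hb) hij

theorem tr_four (hQ : IsProd p q) {i j s t : ℤ} {x a : T.H X} {y c : T.H Y}
    (hx : x ∈ T.gr X i) (ha : a ∈ T.gr X s) (hy : y ∈ T.gr Y j) (hc : c ∈ T.gr Y t) :
    T.tr Q (T.pull p x * T.pull q y * (T.pull p a * T.pull q c)) =
      sgn j s * (T.tr X (x * a) * T.tr Y (y * c)) := by
  rw [← tr_pull_mul_pull T hQ (SetLike.mul_mem_graded hx ha) (SetLike.mul_mem_graded hy hc), map_mul (T.pull p), map_mul (T.pull q)]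
  have h1 : T.pull p x * T.pull q y * (T.pull p a * T.pull q c) =
      T.pull p x * ((T.pull q y * T.pull p a) * T.pull q c) := by simp only [mul_assoc]
  rw [h1, comm_hom T (T.pull_mem q j y hy) (T.pull_mem p s a ha), smul_mul_assoc, mul_smul_comm, map_smul,
    smul_eq_mul]
  simp only [mul_assoc]

theorem ext_kunneth (hQ : IsProd p q) {f g : T.H Q →ₗ[K] K}
    (h : ∀ s t, ∀ a ∈ T.gr X s, ∀ c ∈ T.gr Y t, f (T.pull p a * T.pull q c) = g (T.pull p a * T.pull q c)) :
    f = g := by
  refine LinearMap.ext fun z => ?_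
  obtain ⟨z, rfl⟩ := (T.kunneth p q hQ).2 z
  induction z using TensorProduct.induction_on with
  | zero => simp
  | add u v hu hv => simp [hu, hv]
  | tmul a c =>
    show f (T.pull p a * T.pull q c) = g (T.pull p a * T.pull q c)
    refine LinearMap.congr_fun (ext_gr T (f := (f.comp (LinearMap.mulRight K (T.pull q c))).comp (T.pull p).toLinearMap)
      (g := (g.comp (LinearMap.mulRight K (T.pull q c))).comp (T.pull p).toLinearMap) fun s a ha => ?_) a
    exact LinearMap.congr_fun (ext_gr T (f := (f.comp (LinearMap.mulLeft K (T.pull p a))).comp (T.pull q).toLinearMap)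
      (g := (g.comp (LinearMap.mulLeft K (T.pull p a))).comp (T.pull q).toLinearMap) fun t c hc => h s t a ha c hc) c

theorem push_fst_pull_snd (hQ : IsProd p q) (i : ℤ) (a : T.gr Y i) :
    (i = D Y → (T.push p i ⟨T.pull q a, T.pull_mem q i a a.2⟩ : T.H X) = algebraMap K (T.H X) (T.tr Y a)) ∧
    (i ≠ D Y → (T.push p i ⟨T.pull q a, T.pull_mem q i a a.2⟩ : T.H X) = 0) := by
  have key : ∀ b : T.H X, T.tr X ((T.push p i ⟨T.pull q a, T.pull_mem q i a a.2⟩ : T.H X) * b) =
      T.tr Y a * T.tr X b := by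
    intro b
    rw [tr_push_mul]
    refine LinearMap.congr_fun (ext_gr T (f := ((T.tr Q).comp (LinearMap.mulLeft K (T.pull q a))).comp (T.pull p).toLinearMap)
      (g := T.tr Y a • T.tr X) fun j b hb => ?_) b
    show T.tr Q (T.pull q a * T.pull p b) = T.tr Y a * T.tr X b
    rw [comm_hom T (T.pull_mem q i _ a.2) (T.pull_mem p j b hb), map_smul, smul_eq_mul,
      tr_pull_mul_pull T hQ hb a.2]
    by_cases hi : i = D Y
    · by_cases hj : j = D X
      · subst hj; rw [sgn_even_right, one_mul, mul_comm]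
      · rw [T.tr_vanish X j b hb hj]; ring
    · rw [T.tr_vanish Y i _ a.2 hi]; ring
  constructor
  · intro hi
    have hd := dim_prod T hQ
    refine eq_of_tr T (push_mem T p i _) (mem_of_eq T (by subst hi; unfold D; omega) (SetLike.algebraMap_mem_graded (T.gr X) _)) fun b => ?_
    rw [key, Algebra.algebraMap_eq_smul_one, smul_mul_assoc, one_mul, map_smul, smul_eq_mul]
  · intro hi
    refine eq_of_tr T (push_mem T p i _) (zero_mem _) fun b => ?_
    rw [key, T.tr_vanish Y i _ a.2 hi, zero_mul, zero_mul, map_zero]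

theorem pull_eq_push_graph (f : X ⟶ Y) (hQ : IsProd p q) (j : X ⟶ Q) (hjp : j ≫ p = 𝟙 X) (hjq : j ≫ q = f)
    (i : ℤ) (β : T.gr Y i) :
    (T.push p (2 * (codim Q.obj.left (sm j (genericPoint X.obj.left)) : ℤ) + i)
        ⟨T.cl Q (sm j (genericPoint X.obj.left)) * T.pull q (β : T.H Y),
          SetLike.mul_mem_graded (T.cl_mem Q _) (T.pull_mem q i β β.2)⟩ : T.H X) = T.pull f (β : T.H Y) := by
  refine eq_of_tr T (push_mem T p _ _) (mem_of_eq T ?_ (T.pull_mem f i β β.2)) fun b => ?_
  · have hd := dim_prod T hQ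
    rw [codim_cast, pdim_section j p hjp, pdim_gp]
    unfold D; omega
  · rw [tr_push_mul, mul_assoc, tr_cl_section T j p hjp, map_mul, pull_pull T j q, hjq,
      pull_pull T j p, hjp, pull_id']

end prod

section graph

variable {X P : Var k} {p q : P ⟶ X} (φ : X ⟶ X)

theorem cl_graph_eq (hP : IsProd p q) (j : X ⟶ P) (hjp : j ≫ p = 𝟙 X) (hjq : j ≫ q = φ)
    (ι : ℕ → Type) [∀ r, Fintype (ι r)] [∀ r, DecidableEq (ι r)]
    (e : (r : ℕ) → Module.Basis (ι r) K (T.gr X (r : ℤ)))
    (f : (r : ℕ) → ι r → T.gr X (D X - r))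
    (hef : ∀ r, r ≤ 2 * dim X.obj.left → ∀ i l : ι r,
      T.tr X ((f r l : T.H X) * (e r i : T.H X)) = if i = l then 1 else 0) :
    T.cl P (sm j (genericPoint X.obj.left)) =
      ∑ r ∈ Finset.range (2 * dim X.obj.left + 1), ∑ i : ι r,
        T.pull p (T.pull φ (e r i : T.H X)) * T.pull q (f r i : T.H X) := by
  have hd := dim_prod T hP
  refine eq_of_tr T (i := D X) (mem_of_eq T ?_ (T.cl_mem P _)) ?_ fun b => ?_
  · rw [codim_cast, pdim_section j p hjp, pdim_gp]; unfold D; omega
  · refine Submodule.sum_mem _ fun r _ => Submodule.sum_mem _ fun i _ => ?_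
    exact mem_of_eq T (by omega) (SetLike.mul_mem_graded (T.pull_mem p _ _ (T.pull_mem φ _ _ (e r i).2))
      (T.pull_mem q _ _ (f r i).2))
  refine LinearMap.congr_fun (ext_kunneth T hP
    (f := (T.tr P).comp (LinearMap.mulLeft K (T.cl P (sm j (genericPoint X.obj.left)))))
    (g := (T.tr P).comp (LinearMap.mulLeft K _)) fun s t a ha c hc => ?_) b
  show T.tr P (_ * (T.pull p a * T.pull q c)) = T.tr P (_ * (T.pull p a * T.pull q c))
  rw [tr_cl_section T j p hjp, map_mul, pull_pull T j p, hjp, pull_id', pull_pull T j q, hjq, Finset.sum_mul, map_sum]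
  simp only [Finset.sum_mul, map_sum]
  rw [Finset.sum_congr rfl fun r _ => Finset.sum_congr rfl fun i _ =>
    tr_four T hP (T.pull_mem φ _ _ (e r i).2) ha (f r i).2 hc]
  show T.tr X (a * T.pull φ c) = _
  by_cases ht : t < 0 ∨ D X < t
  · have : c ∈ (⊥ : Submodule K (T.H X)) := T.vanish X t ht ▸ hc
    rw [(Submodule.mem_bot K).1 this]
    simp
  push Not at ht
  obtain ⟨r, rfl⟩ := Int.eq_ofNat_of_zero_le ht.1
  have hr : r ≤ 2 * dim X.obj.left := by unfold D at ht; omega
  rw [Finset.sum_eq_single r (fun r' _ hr' => Finset.sum_eq_zero fun i _ => ?_)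
    (fun h => absurd (Finset.mem_range.2 (by omega)) h)]
  swap
  · rw [tr_mul_eq_zero T (f r' i).2 hc (by omega), mul_zero, mul_zero]
  by_cases hs : s = D X - r
  swap
  · rw [tr_mul_eq_zero T ha (T.pull_mem φ _ c hc) (by omega)]
    refine (Finset.sum_eq_zero fun i _ => ?_).symm
    rw [tr_mul_eq_zero T (T.pull_mem φ _ _ (e r i).2) ha (by omega), zero_mul, mul_zero]
  subst hs
  have hc' : c = ∑ i, T.tr X ((f r i : T.H X) * c) • (e r i : T.H X) := by
    have h := congrArg (Subtype.val) ((e r).sum_repr ⟨c, hc⟩)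
    simp only [Submodule.coe_sum, Submodule.coe_smul] at h
    have hrep : ∀ l, T.tr X ((f r l : T.H X) * c) = (e r).repr ⟨c, hc⟩ l := by
      intro l
      conv_lhs => rw [← h]
      simp only [Finset.mul_sum, map_sum, mul_smul_comm, map_smul, hef r hr, smul_eq_mul, mul_ite, mul_one, mul_zero]
      rw [Finset.sum_ite_eq' Finset.univ l, if_pos (Finset.mem_univ _)]
    simp only [hrep]
    exact h.symm
  conv_lhs => rw [hc', map_sum, Finset.mul_sum, map_sum]
  refine Finset.sum_congr rfl fun i _ => ?_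
  rw [map_smul, mul_smul_comm, map_smul, smul_eq_mul,
    comm_hom T (T.pull_mem φ _ _ (e r i).2) ha, map_smul, smul_eq_mul]
  have hsg : (sgn (D X - r) (D X - r) : K) * sgn (r : ℤ) (D X - r) = 1 := by
    rw [sgn, sgn, ← pow_add, ← add_mul]
    refine Even.neg_one_pow (Even.mul_right ?_ _)
    have : D X = 2 * (dim X.obj.left : ℤ) := rfl
    exact ⟨dim X.obj.left, by omega⟩
  rw [← mul_assoc (sgn (D X - r) (D X - r) : K), ← mul_assoc (sgn (D X - r) (D X - r) : K), hsg, one_mul, mul_comm]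

theorem trace_formula (hP : IsProd p q) (j d : X ⟶ P)
    (hjp : j ≫ p = 𝟙 X) (hjq : j ≫ q = φ) (hdp : d ≫ p = 𝟙 X) (hdq : d ≫ q = 𝟙 X) :
    T.tr P (T.cl P (sm j (genericPoint X.obj.left)) * T.cl P (sm d (genericPoint X.obj.left))) =
      ∑ i ∈ Finset.range (2 * dim X.obj.left + 1),
        (-1 : K) ^ i * LinearMap.trace K (T.gr X (i : ℤ)) (T.pullDeg φ (i : ℤ)) := by
  classical
  let e : (r : ℕ) → Module.Basis (Fin (Module.finrank K (T.gr X (r : ℤ)))) K (T.gr X (r : ℤ)) :=
    fun r => Module.finBasis K _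
  have hex : ∀ (r : ℕ) l, ∃ f : T.gr X (D X - r), ∀ c : T.gr X (r : ℤ),
      T.tr X ((f : T.H X) * c) = (e r).coord l c := by
    intro r l
    have := T.duality X (D X - r) r (by unfold D; omega)
    obtain ⟨f, hf⟩ := this.bijective_left.surjective ((e r).coord l)
    exact ⟨f, fun c => LinearMap.congr_fun hf c⟩
  choose f hf using hex
  have hg := cl_graph_eq T φ hP j hjp hjq _ e f (fun r _ i l => by
    rw [hf r l (e r i), Module.Basis.coord_apply, (e r).repr_self, Finsupp.single_apply])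
  rw [comm_even T (T.cl_mem P _) (T.cl_mem P (sm d (genericPoint X.obj.left))), tr_cl_section T d p hdp, hg]
  simp only [map_sum, map_mul]
  refine Finset.sum_congr rfl fun r hr => ?_
  rw [LinearMap.trace_eq_matrix_trace K (e r), Matrix.trace, Finset.mul_sum]
  refine Finset.sum_congr rfl fun i _ => ?_
  rw [pull_pull T d p, hdp, pull_id', pull_pull T d q, hdq, pull_id']
  show T.tr X (T.pull φ (e r i : T.H X) * (f r i : T.H X)) = _
  rw [comm_hom T (T.pull_mem φ _ _ (e r i).2) (f r i).2, map_smul, smul_eq_mul]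
  have h1 : (sgn (r : ℤ) (D X - r) : K) = (-1) ^ r := by
    rw [sgn, neg_one_pow_eq_pow_mod_two, neg_one_pow_eq_pow_mod_two (n := r)]
    congr 1
    have : D X = 2 * (dim X.obj.left : ℤ) := rfl
    have hr' := Finset.mem_range.1 hr
    have : (D X - r).natAbs % 2 = r % 2 := by omega
    rw [Nat.mul_mod, this, Int.natAbs_natCast, ← Nat.mul_mod]
    rcases Nat.mod_two_eq_zero_or_one r with h | h <;> simp [Nat.mul_mod, h]
  rw [h1]
  congr 1
  rw [Matrix.diag_apply, LinearMap.toMatrix_apply]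
  exact hf r i (T.pullDeg φ r (e r i))

end graph

end Groth.Agent.WC97
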