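import Groth.Agent.WC97.Frob
import Groth.Agent.WC97.Prod
import Groth.Agent.WC97.LinAlg

/-! Fixed points of a Frobenius power and the Lefschetz trace formula for their number. -/

set_option autoImplicit false
universe u v

noncomputable section

open CategoryTheory AlgebraicGeometry WeilCoh TopologicalSpace

namespace Groth.Agent.WC97

theorem isProper_toBase (n : ℕ) (S : Scheme.{u}) : IsProper (CohB1.ProjSpaceOver.toBase n S) := by
  have h1 : IsClosedImmersion (Spec.map (CommRingCat.ofHom (algebraMap (ULift.{u} ℤ) (CohB1.polyGrading n (ULift.{u} ℤ) 0)))) := by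
    refine IsClosedImmersion.spec_of_surjective _ ?_
    rintro ⟨z, hz⟩
    refine ⟨MvPolynomial.coeff 0 z, Subtype.ext ?_⟩
    exact (MvPolynomial.totalDegree_eq_zero_iff_eq_C.1
      (Nat.le_zero.1 (MvPolynomial.IsHomogeneous.totalDegree_le hz))).symm
  have h2 : Algebra.FiniteType (CohB1.polyGrading n (ULift.{u} ℤ) 0) (MvPolynomial (Fin (n + 1)) (ULift.{u} ℤ)) := by
    refine ⟨⟨Finset.univ.image MvPolynomial.X, eq_top_iff.2 fun z _ => ?_⟩⟩
    induction z using MvPolynomial.induction_on with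
    | C c =>
      exact Subalgebra.algebraMap_mem _ (⟨MvPolynomial.C c, MvPolynomial.isHomogeneous_C _ c⟩ : CohB1.polyGrading n (ULift.{u} ℤ) 0)
    | add a b ha hb => exact add_mem (ha trivial) (hb trivial)
    | mul_X a i ha => exact mul_mem (ha trivial) (Algebra.subset_adjoin (by simp))
  unfold CohB1.ProjSpaceOver.toBase CohB1.ProjSpace.toSpec
  have : IsProper (Proj.toSpecZero (CohB1.polyGrading n (ULift.{u} ℤ)) ≫
      Spec.map (CommRingCat.ofHom (algebraMap (ULift.{u} ℤ) (CohB1.polyGrading n (ULift.{u} ℤ) 0)))) :=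
    MorphismProperty.comp_mem _ _ _ inferInstance inferInstance
  exact MorphismProperty.pullback_snd _ _ this

theorem isProper_var {k : Type u} [Field k] (Y : Var k) : IsProper Y.obj.hom := by
  obtain ⟨n, i, hi, hi'⟩ := Y.property.2.1
  have := isProper_toBase n (Spec (CommRingCat.of k))
  rw [← hi']; infer_instance

theorem isClosed_of_pdim_eq_zero {k : Type u} [Field k] {X : Scheme.{u}} (f : X ⟶ Spec (.of k))
    [LocallyOfFiniteType f] {x : X} (h : pdim X x = 0) : IsClosed ({x} : Set X) := by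
  have : JacobsonSpace ↥X := LocallyOfFiniteType.jacobsonSpace f
  obtain ⟨z, hz, hz'⟩ := nonempty_inter_closedPoints (Z := closure ({x} : Set X))
    ⟨x, subset_closure rfl⟩ isClosed_closure.isLocallyClosed
  suffices z = x by subst this; exact hz'
  by_contra hne
  have hirr : IsIrreducible (closure ({x} : Set X)) := isIrreducible_singleton.closure
  have : IrreducibleSpace ↥(closure ({x} : Set X)) := isIrreducible_iff_irreducibleSpace.mp hirr
  have hfin : topologicalKrullDim ↥(closure ({x} : Set X)) = (0 : ℕ) := by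
    rw [topologicalKrullDim_closure f, ← pdim_eq f, h]
  have hlt := TopDim50.dim_lt_of_ssubset (X := ↥(closure ({x} : Set X)))
    (Y := Subtype.val ⁻¹' ({z} : Set X)) (by rw [hfin]; exact fun h => by cases h)
    (hz'.preimage continuous_subtype_val)
    (fun hh => hne (by
      have : (⟨x, subset_closure rfl⟩ : closure ({x} : Set X)) ∈ Subtype.val ⁻¹' ({z} : Set X) := hh ▸ trivial
      exact (this : x = z).symm))
  rw [hfin] at hlt
  have : Nonempty ↥(Subtype.val ⁻¹' ({z} : Set X) : Set ↥(closure ({x} : Set X))) := ⟨⟨⟨z, hz⟩, rfl⟩⟩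
  exact absurd TopDim50.dim_nonneg (not_le.2 (by exact_mod_cast hlt))

variable {k : Type u} [Field k] [IsAlgClosed k]

theorem kStr_bijective {Y : Scheme.{u}} (f : Y ⟶ Spec (.of k)) [LocallyOfFiniteType f] {x : Y}
    (hx : IsClosed ({x} : Set Y)) : Function.Bijective (kStr f x) := by
  have h : CommRingCat.ofHom (kStr f x) = (residueFieldIsoBase f x hx).inv := by
    apply Spec.map_injective
    rw [kStr_spec, SpecMap_residueFieldIsoBase_inv]
  have h2 : Function.Bijective (residueFieldIsoBase f x hx).inv.hom :=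
    (ConcreteCategory.isIso_iff_bijective _).1 inferInstance
  rw [← h] at h2
  exact h2

variable {X : Scheme.{u}} {Xb : Var k} {k₀ : Type u} [Field k₀] [Algebra k₀ k]
  {f : X ⟶ Spec (.of k₀)} {π : Xb.obj.left ⟶ X}
  (hπ : IsPullback π Xb.obj.hom f (Spec.map (CommRingCat.ofHom (algebraMap k₀ k))))
  {p e : ℕ} [hp : Fact p.Prime] [CharP k p] {G : Xb ⟶ Xb} (hG : IsFrob p e π G)

include hπ hG

/-- the residue of `Φ s` at a point fixed with trivial residue action -/
theorem evaluation_phi_fixed {U : X.Opens} (hU : IsAffineOpen U) {x : Xb.obj.left} (hx : x ∈ π ⁻¹ᵁ U)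
    (hfix : sm G x = x) (c : k) (s : Γ(Xb.obj.left, π ⁻¹ᵁ U))
    (hs : (Xb.obj.left.evaluation _ x hx).hom s = kStr Xb.obj.hom x c) :
    (Xb.obj.left.evaluation _ x hx).hom (phi hG U s) = kStr Xb.obj.hom x c := by
  have hW := isAffineOpen_preimage hπ hU
  have hGx : sm G x ∈ π ⁻¹ᵁ U := by rw [hfix]; exact hx
  have key : ∀ y, y = x → ∀ hy : y ∈ π ⁻¹ᵁ U,
      (Xb.obj.left.evaluation _ y hy).hom s = kStr Xb.obj.hom y c := by rintro y rfl _; exact hs
  have := residueFieldMap_evaluation x hx hGx (hG.preimage_eq U).ge s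
  rw [show phi hG U s = (sm G).appLE _ _ (hG.preimage_eq U).ge s from rfl]
  refine this.symm.trans ?_
  rw [show (Xb.obj.left.evaluation _ _ hGx) s = kStr Xb.obj.hom (sm G x) c from key _ hfix hGx]
  exact (RingHom.congr_fun (kStr_comp (sm G) Xb.obj.hom Xb.obj.hom (sm_hom G) x) c).symm

theorem phi_mem_sq (he : e ≠ 0) {U : X.Opens} (hU : IsAffineOpen U) {x : Xb.obj.left} (hx : x ∈ π ⁻¹ᵁ U)
    (hfix : sm G x = x) (hcl : IsClosed ({x} : Set Xb.obj.left)) (s : Γ(Xb.obj.left, π ⁻¹ᵁ U))
    (hs : (Xb.obj.left.evaluation _ x hx).hom s = 0) :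
    phi hG U s ∈ RingHom.ker (Xb.obj.left.evaluation _ x hx).hom * RingHom.ker (Xb.obj.left.evaluation _ x hx).hom := by
  have hW := isAffineOpen_preimage hπ hU
  let ev := (Xb.obj.left.evaluation _ x hx).hom
  let κ := kSec Xb.obj.hom hW
  let P := RingHom.ker ev
  have hev : ∀ c, ev (κ c) = kStr Xb.obj.hom x c := fun c => (RingHom.congr_fun (kStr_eq Xb.obj.hom hW hx) c).symm
  let S : Subring Γ(Xb.obj.left, π ⁻¹ᵁ U) :=
    { carrier := {t | ∃ c, t - κ c ∈ P ∧ phi hG U t - κ c ∈ P * P}
      mul_mem' := by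
        rintro a b ⟨c, ha, ha'⟩ ⟨d, hb, hb'⟩
        refine ⟨c * d, ?_, ?_⟩
        · rw [map_mul κ, show a * b - κ c * κ d = (a - κ c) * b + κ c * (b - κ d) by ring]
          exact add_mem (P.mul_mem_right _ ha) (P.mul_mem_left _ hb)
        · rw [map_mul κ, map_mul, show phi hG U a * phi hG U b - κ c * κ d =
            (phi hG U a - κ c) * phi hG U b + κ c * (phi hG U b - κ d) by ring]
          exact add_mem ((P * P).mul_mem_right _ ha') ((P * P).mul_mem_left _ hb')
      one_mem' := ⟨1, by rw [map_one κ, sub_self]; exact zero_mem _, by rw [map_one κ, map_one, sub_self]; exact zero_mem _⟩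
      add_mem' := by
        rintro a b ⟨c, ha, ha'⟩ ⟨d, hb, hb'⟩
        refine ⟨c + d, ?_, ?_⟩
        · rw [map_add κ, add_sub_add_comm]; exact add_mem ha hb
        · rw [map_add κ, map_add, add_sub_add_comm]; exact add_mem ha' hb'
      zero_mem' := ⟨0, by rw [map_zero κ, sub_self]; exact zero_mem _, by rw [map_zero κ, map_zero, sub_self]; exact zero_mem _⟩
      neg_mem' := by
        rintro a ⟨c, ha, ha'⟩
        refine ⟨-c, ?_, ?_⟩
        · rw [map_neg κ, neg_sub_neg, ← neg_sub]; exact neg_mem ha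
        · rw [map_neg κ, map_neg, neg_sub_neg, ← neg_sub]; exact neg_mem ha' }
  have htop : S = ⊤ := by
    refine generated hπ hU S (fun a => ?_) (fun c => ⟨c, ?_, ?_⟩)
    · obtain ⟨c, hc⟩ := (kStr_bijective Xb.obj.hom hcl).2 (ev (π.app U a))
      have h1 := evaluation_phi_fixed hπ hG hU hx hfix c _ hc.symm
      have happ : phi hG U (π.app U a) = (π.app U a) ^ p ^ e := hG.app U _ a
      rw [happ] at h1
      have h1' : ev (π.app U a) ^ p ^ e = kStr Xb.obj.hom x c := by rw [← map_pow]; exact h1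
      have hcc : c ^ p ^ e = c := by
        refine (kStr Xb.obj.hom x).injective ?_
        rw [map_pow, hc, h1', hc]
      refine ⟨c, ?_, ?_⟩
      · show ev (π.app U a - κ c) = 0
        rw [map_sub, hev, hc, sub_self]
      · rw [happ, ← hcc, map_pow κ]
        have : Nontrivial Γ(Xb.obj.left, π ⁻¹ᵁ U) := ev.domain_nontrivial
        have : CharP Γ(Xb.obj.left, π ⁻¹ᵁ U) p := charP_of_injective_ringHom κ.injective p
        rw [← sub_pow_char_pow]
        have hmem : π.app U a - κ c ∈ P := by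
          show ev (π.app U a - κ c) = 0
          rw [map_sub, hev, hc, sub_self]
        have h2 : 2 ≤ p ^ e := le_trans hp.out.two_le (Nat.le_self_pow he p)
        rw [← pow_two P]
        exact Ideal.pow_le_pow_right h2 (Ideal.pow_mem_pow hmem _)
    · rw [sub_self]; exact zero_mem _
    · rw [phi_kSec hπ hG hU, sub_self]; exact zero_mem _
  obtain ⟨c, h1, h2⟩ : s ∈ S := htop ▸ trivial
  have hc : c = 0 := by
    refine (kStr Xb.obj.hom x).injective ?_
    rw [map_zero, ← hev]
    have h1' : ev (s - κ c) = 0 := h1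
    rw [map_sub, sub_eq_zero] at h1'
    rw [← h1']; exact hs
  rw [hc, map_zero κ, sub_zero] at h2
  exact h2

section graph

variable {Q : Var k} {pr q : Q ⟶ Xb} (hQ : IsProd pr q) {j d : Xb ⟶ Q}
  (hjp : j ≫ pr = 𝟙 Xb) (hjq : j ≫ q = G) (hdp : d ≫ pr = 𝟙 Xb) (hdq : d ≫ q = 𝟙 Xb)

include hjq hjp hdp hdq

/-- the points where the diagonal meets the graph are closed fixed points -/
theorem eq_and_isClosed_of_agree (he : e ≠ 0) {x : Xb.obj.left} (hx : sm d x = sm j x) :
    IsClosed ({x} : Set Xb.obj.left) ∧ sm G x = x := by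
  have hGx : sm G x = x := by
    rw [← hjq, sm_comp, Scheme.Hom.comp_apply, ← hx, ← Scheme.Hom.comp_apply, ← sm_comp, hdq]; rfl
  refine ⟨?_, hGx⟩
  have hbij : ∀ y, y = sm d x → Function.Bijective ((sm q).residueFieldMap y).hom := by
    rintro y rfl
    have h2 : ∀ g : Xb.obj.left ⟶ Xb.obj.left, g = 𝟙 _ → Function.Bijective (g.residueFieldMap x).hom := by
      rintro g rfl; rw [Scheme.residueFieldMap_id]; exact Function.bijective_id
    have h3 := h2 (sm d ≫ sm q) (by rw [← sm_comp, hdq]; rfl)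
    rw [Scheme.residueFieldMap_comp] at h3
    have h4 : Function.Bijective (((sm d).residueFieldMap x).hom ∘ ((sm q).residueFieldMap (sm d x)).hom) := h3
    exact ⟨((sm q).residueFieldMap _).hom.injective, h4.surjective.of_comp_left ((sm d).residueFieldMap x).hom.injective⟩
  have hj : Function.Surjective ((sm j).residueFieldMap x).hom := by
    have h2 : ∀ g : Xb.obj.left ⟶ Xb.obj.left, g = 𝟙 _ → Function.Bijective (g.residueFieldMap x).hom := by
      rintro g rfl; rw [Scheme.residueFieldMap_id]; exact Function.bijective_id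
    have h3 := (h2 (sm j ≫ sm pr) (by rw [← sm_comp, hjp]; rfl)).surjective
    rw [Scheme.residueFieldMap_comp] at h3
    have h4 : Function.Surjective (((sm j).residueFieldMap x).hom ∘ ((sm pr).residueFieldMap (sm j x)).hom) := h3
    exact h4.of_comp
  have hsurj : Function.Surjective ((sm G).residueFieldMap x).hom := by
    subst hjq
    rw [sm_comp, Scheme.residueFieldMap_comp]
    exact hj.comp (hbij _ hx.symm).2
  have htop : powSubfield p e (Xb.obj.left.residueField x) = ⊤ := by
    rw [← fieldRange_residueFieldMap hπ hG x]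
    exact RingHom.fieldRange_eq_top_iff.2 hsurj
  refine isClosed_of_pdim_eq_zero Xb.obj.hom ?_
  have h1 := finrank_residue_powSubfield (p := p) (e := e) x
  rw [htop, ← Subfield.relfinrank_top_right, Subfield.relfinrank_self] at h1
  by_contra hne
  have : 1 < (p ^ e) ^ pdim Xb.obj.left x := Nat.one_lt_pow hne (Nat.one_lt_pow he hp.out.one_lt)
  omega

omit hjp hjq hdp hdq

include hQ hjp hjq hdp hdq in
theorem agree_of_fixed {x : Xb.obj.left} (hcl : IsClosed ({x} : Set Xb.obj.left)) (hfix : sm G x = x) :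
    sm d x = sm j x := by
  let s := pointOfClosedPoint Xb.obj.hom x hcl
  have h1 : s ≫ sm d = s ≫ sm j := by
    refine IsPullback.hom_ext hQ ?_ ?_
    · rw [Category.assoc, Category.assoc, ← sm_comp, ← sm_comp, hdp, hjp]
    · rw [Category.assoc, Category.assoc, ← sm_comp, ← sm_comp, hdq, hjq, sm_id, Category.comp_id]
      refine ext_of_apply_closedPoint_eq Xb.obj.hom (pointOfClosedPoint_comp _ x hcl)
        (by rw [Category.assoc, sm_hom]; exact pointOfClosedPoint_comp _ x hcl) ?_
      rw [Scheme.Hom.comp_apply, pointOfClosedPoint_apply, hfix]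
  have := congrArg (fun g : Spec (.of k) ⟶ Q.obj.left => g (IsLocalRing.closedPoint k)) h1
  rw [Scheme.Hom.comp_apply, Scheme.Hom.comp_apply, pointOfClosedPoint_apply] at this
  exact this

include hQ in
omit hπ hG in
theorem isSeparated_fst : IsSeparated (sm pr) := by
  have := isProper_var Xb
  have : IsSeparated Xb.obj.hom := inferInstance
  exact MorphismProperty.of_isPullback (P := @IsSeparated) hQ.flip inferInstance

include hQ hjp hjq hdp hdq

omit hjq hdp hdq hπ hG in
theorem closure_graph : closure ({sm j (genericPoint Xb.obj.left)} : Set Q.obj.left) = Set.range (sm j) := by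
  have := isSeparated_fst (Xb := Xb) hQ
  have : IsClosedImmersion (sm j) := by
    have h : sm j ≫ sm pr = 𝟙 _ := by rw [← sm_comp, hjp]; rfl
    have : IsClosedImmersion (sm j ≫ sm pr) := by rw [h]; infer_instance
    exact IsClosedImmersion.of_comp (sm j) (sm pr)
  rw [← Set.image_singleton, (sm j).isClosedEmbedding.closure_image_eq, genericPoint_closure, Set.image_univ]

theorem preimMult_fixed (he : e ≠ 0) {x : Xb.obj.left} (hcl : IsClosed ({x} : Set Xb.obj.left))
    (hfix : sm G x = x) (h : sm d x ∈ closure ({sm j (genericPoint Xb.obj.left)} : Set Q.obj.left)) :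
    preimMult (sm d) (sm j (genericPoint Xb.obj.left)) x h = 1 := by
  let ξ := sm j (genericPoint Xb.obj.left)
  let I := Ideal.map ((sm d).stalkMap x).hom
    (RingHom.ker (Cyc.specMap (sm d x) ξ (specializes_iff_mem_closure.mpr h)))
  suffices hI : I = IsLocalRing.maximalIdeal (Xb.obj.left.presheaf.stalk x) by
    show (Module.length (Xb.obj.left.presheaf.stalk x) (Xb.obj.left.presheaf.stalk x ⧸ I)).toNat = 1
    have : IsSimpleModule (Xb.obj.left.presheaf.stalk x) (Xb.obj.left.presheaf.stalk x ⧸ I) :=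
      isSimpleModule_iff_isCoatom.2 (by rw [hI]; exact (IsLocalRing.maximalIdeal.isMaximal _).out)
    rw [Module.length_eq_one_iff.2 this]
    rfl
  refine le_antisymm ((Ideal.map_mono (IsLocalRing.le_maximalIdeal (RingHom.ker_ne_top _))).trans
    (IsLocalRing.map_maximalIdeal_le _)) ?_
  obtain ⟨U, hU, hπx, -⟩ := exists_isAffineOpen_mem_and_subset (U := ⊤) (show π x ∈ (⊤ : X.Opens) from trivial)
  let W := π ⁻¹ᵁ U
  have hW : IsAffineOpen W := isAffineOpen_preimage hπ hU
  have hx : x ∈ W := hπx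
  let O : Q.obj.left.Opens := (sm pr ⁻¹ᵁ W) ⊓ (sm q ⁻¹ᵁ W)
  have happly : ∀ (g : Xb ⟶ Q) (g' : Q ⟶ Xb) (g'' : Xb ⟶ Xb), g ≫ g' = g'' → ∀ y, sm g' (sm g y) = sm g'' y := by
    rintro g g' _ rfl y; rfl
  have hdO : sm d x ∈ O := ⟨by show sm pr (sm d x) ∈ W; rw [happly _ _ _ hdp]; exact hx,
    by show sm q (sm d x) ∈ W; rw [happly _ _ _ hdq]; exact hx⟩
  have hdW : W ≤ sm d ⁻¹ᵁ O := fun y hy => ⟨by show sm pr (sm d y) ∈ W; rw [happly _ _ _ hdp]; exact hy,
    by show sm q (sm d y) ∈ W; rw [happly _ _ _ hdq]; exact hy⟩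
  have hjW : W ≤ sm j ⁻¹ᵁ O := fun y hy => ⟨by show sm pr (sm j y) ∈ W; rw [happly _ _ _ hjp]; exact hy,
    by show sm q (sm j y) ∈ W; rw [happly _ _ _ hjq]; show π (sm G y) ∈ U; rw [hG.map_pi]; exact hy⟩
  have hpO : O ≤ sm pr ⁻¹ᵁ W := inf_le_left
  have hqO : O ≤ sm q ⁻¹ᵁ W := inf_le_right
  have hcomp : ∀ (g : Xb ⟶ Q) (g' : Q ⟶ Xb) (g'' : Xb ⟶ Xb), g ≫ g' = g'' → ∀ e₁ e₂ e₃,
      (sm g').appLE W O e₁ ≫ (sm g).appLE O W e₂ = (sm g'').appLE W W e₃ := by
    rintro g g' _ rfl e₁ e₂ e₃; rw [Scheme.Hom.appLE_comp_appLE]; rfl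
  have hid : ∀ e₃, (sm (𝟙 Xb)).appLE W W e₃ = 𝟙 _ := by
    intro e₃
    show Scheme.Hom.appLE (𝟙 Xb.obj.left) W ((𝟙 Xb.obj.left : _ ⟶ _) ⁻¹ᵁ W) le_rfl = _
    rw [Scheme.Hom.appLE_eq_app, Scheme.Hom.id_app]
  have key : ∀ s : Γ(Xb.obj.left, W), Xb.obj.left.presheaf.germ W x hx (phi hG U s - s) ∈ I := by
    intro s
    let σ : Γ(Q.obj.left, O) := (sm pr).appLE W O hpO (phi hG U s) - (sm q).appLE W O hqO s
    have c1 := hcomp j pr (𝟙 Xb) hjp hpO hjW le_rfl
    have c2 := hcomp j q G hjq hqO hjW (hG.preimage_eq U).ge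
    have c3 := hcomp d pr (𝟙 Xb) hdp hpO hdW le_rfl
    have c4 := hcomp d q (𝟙 Xb) hdq hqO hdW le_rfl
    rw [hid] at c1 c3 c4
    have hjσ : (sm j).appLE O W hjW σ = 0 := by
      rw [map_sub, ← CommRingCat.comp_apply, ← CommRingCat.comp_apply, c1, c2]
      exact sub_self _
    have hdσ : (sm d).appLE O W hdW σ = phi hG U s - s := by
      rw [map_sub, ← CommRingCat.comp_apply, ← CommRingCat.comp_apply, c3, c4]
      rfl
    have hker : Q.obj.left.presheaf.germ O (sm d x) hdO σ ∈
        RingHom.ker (Cyc.specMap (sm d x) ξ (specializes_iff_mem_closure.mpr h)) := by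
      rw [RingHom.mem_ker, Cyc.specMap, CommRingCat.hom_comp, RingHom.comp_apply]
      have hξO : ξ ∈ O := (specializes_iff_mem_closure.mpr h).mem_open O.2 hdO
      rw [show (Q.obj.left.presheaf.stalkSpecializes (specializes_iff_mem_closure.mpr h)).hom
          (Q.obj.left.presheaf.germ O (sm d x) hdO σ) = Q.obj.left.presheaf.germ O ξ hξO σ from
        TopCat.Presheaf.germ_stalkSpecializes_apply _ _ _ _]
      have hgW : genericPoint Xb.obj.left ∈ W := (genericPoint_specializes x).mem_open W.2 hx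
      refine ((sm j).residueFieldMap (genericPoint Xb.obj.left)).hom.injective ?_
      rw [map_zero]
      refine (Scheme.evaluation_naturality_apply (sm j) (genericPoint Xb.obj.left) hξO σ).trans ?_
      have hres : Xb.obj.left.evaluation (sm j ⁻¹ᵁ O) (genericPoint Xb.obj.left) hξO ((sm j).app O σ) =
          Xb.obj.left.evaluation W (genericPoint Xb.obj.left) hgW ((sm j).appLE O W hjW σ) := by
        rw [Scheme.Hom.appLE, CommRingCat.comp_apply, Scheme.evaluation, Scheme.evaluation, CommRingCat.comp_apply,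
          CommRingCat.comp_apply, TopCat.Presheaf.germ_res_apply]
      rw [hres, hjσ, map_zero]
    have := Ideal.mem_map_of_mem ((sm d).stalkMap x).hom hker
    have e1 : ((sm d).stalkMap x).hom (Q.obj.left.presheaf.germ O (sm d x) hdO σ) =
        Xb.obj.left.presheaf.germ W x hx (phi hG U s - s) := by
      rw [← hdσ, Scheme.Hom.appLE, CommRingCat.comp_apply, TopCat.Presheaf.germ_res_apply]
      exact Scheme.Hom.germ_stalkMap_apply (sm d) O x hdO σ
    rwa [e1] at this
  let m := IsLocalRing.maximalIdeal (Xb.obj.left.presheaf.stalk x)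
  letI := Xb.obj.left.presheaf.algebra_section_stalk ⟨x, hx⟩
  have hloc := hW.isLocalization_stalk ⟨x, hx⟩
  have hmax : Ideal.map (Xb.obj.left.presheaf.germ W x hx).hom (RingHom.ker (Xb.obj.left.evaluation W x hx).hom) = m := by
    rw [ker_evaluation hW hx]
    exact IsLocalization.AtPrime.map_eq_maximalIdeal (hW.primeIdealOf ⟨x, hx⟩).asIdeal _
  have hsub : m ≤ I ⊔ m • m := by
    conv_lhs => rw [← hmax]
    rw [Ideal.map_le_iff_le_comap]
    intro s hs
    have h2 := Ideal.mem_map_of_mem (Xb.obj.left.presheaf.germ W x hx).hom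
      (phi_mem_sq hπ hG he hU hx hfix hcl s hs)
    rw [Ideal.map_mul, hmax] at h2
    have h3 := key s
    rw [map_sub] at h3
    show Xb.obj.left.presheaf.germ W x hx s ∈ I ⊔ m • m
    rw [← sub_sub_cancel (Xb.obj.left.presheaf.germ W x hx (phi hG U s)) (Xb.obj.left.presheaf.germ W x hx s)]
    exact sub_mem (Submodule.mem_sup_right h2) (Submodule.mem_sup_left h3)
  have : IsLocallyNoetherian Xb.obj.left := LocallyOfFiniteType.isLocallyNoetherian Xb.obj.hom
  exact Submodule.le_of_le_smul_of_le_jacobson_bot (IsNoetherian.noetherian m)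
    (IsLocalRing.maximalIdeal_le_jacobson ⊥) hsub

variable {K : Type v} [Field K] [CharZero K] (T : Theory k K)

/-- the number of fixed points of a Frobenius is the alternating sum of traces -/
theorem card_fixed (he : e ≠ 0) :
    {x : Xb.obj.left | IsClosed ({x} : Set Xb.obj.left) ∧ sm G x = x}.Finite ∧
    (Nat.card {x : Xb.obj.left // IsClosed ({x} : Set Xb.obj.left) ∧ sm G x = x} : K) =
      ∑ i ∈ Finset.range (2 * dim Xb.obj.left + 1),
        (-1 : K) ^ i * LinearMap.trace K (T.gr Xb (i : ℤ)) (T.pullDeg G (i : ℤ)) := by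
  classical
  let ξ := sm j (genericPoint Xb.obj.left)
  let Fx : Set Xb.obj.left := (sm d) ⁻¹' closure ({ξ} : Set Q.obj.left)
  have hFx : ∀ x, x ∈ Fx ↔ IsClosed ({x} : Set Xb.obj.left) ∧ sm G x = x := by
    intro x
    show sm d x ∈ closure ({ξ} : Set Q.obj.left) ↔ _
    rw [closure_graph hQ hjp]
    constructor
    · rintro ⟨y, hy⟩
      have hyx : y = x := by
        have := congrArg (sm pr) hy
        rwa [← Scheme.Hom.comp_apply, ← Scheme.Hom.comp_apply, ← sm_comp, ← sm_comp, hjp, hdp] at this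
      subst hyx
      exact eq_and_isClosed_of_agree hπ hG hjp hjq hdp hdq he hy.symm
    · rintro ⟨h1, h2⟩
      exact ⟨x, (agree_of_fixed hπ hG hQ hjp hjq hdp hdq h1 h2).symm⟩
  have hFcl : IsClosed Fx := isClosed_closure.preimage (sm d).continuous
  have hfin : Fx.Finite := by
    have := isProper_var Xb
    have : IsNoetherian Xb.obj.left :=
      { __ := LocallyOfFiniteType.isLocallyNoetherian Xb.obj.hom
        __ := QuasiCompact.compactSpace_of_compactSpace Xb.obj.hom }
    obtain ⟨S, hS, hSc, hSi, hSu⟩ := NoetherianSpace.exists_finite_set_isClosed_irreducible hFcl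
    choose! gen hgen using fun Z (hZ : Z ∈ S) => QuasiSober.sober (hSi Z hZ) (hSc Z hZ)
    refine (hS.image gen).subset fun x hx => ?_
    rw [hSu] at hx
    obtain ⟨Z, hZ, hxZ⟩ := hx
    refine ⟨Z, hZ, ?_⟩
    have hmem : gen Z ∈ Fx := by rw [hSu]; exact ⟨Z, hZ, (hgen Z hZ).mem⟩
    have h1 := ((hFx _).1 hmem).1.closure_eq
    rw [(hgen Z hZ).def] at h1
    rw [h1] at hxZ
    exact (hxZ : x = gen Z).symm
  have hset : {x : Xb.obj.left | IsClosed ({x} : Set Xb.obj.left) ∧ sm G x = x} = Fx := Set.ext fun x => (hFx x).symm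
  refine ⟨hset ▸ hfin, ?_⟩
  have hcomp : ∀ w, IsCompPt Fx w ↔ w ∈ Fx := fun w => ⟨fun h => h.1, fun h => ⟨h, fun w' hw' hs =>
    ((((hFx w').1 hw').1.closure_eq).subset (specializes_iff_mem_closure.1 hs) : w = w').symm⟩⟩
  have hd := dim_prod T hQ
  have hdim : ∀ w, IsCompPt Fx w →
      (pdim Xb.obj.left w : ℤ) = pdim Q.obj.left ξ + dim Xb.obj.left - dim Q.obj.left := by
    intro w hw
    rw [pdim_of_isClosed Xb.obj.hom ((hFx w).1 hw.1).1, pdim_section j pr hjp, pdim_gp, hd]
    omega
  have hmult : ∀ (w : Xb.obj.left) (hw : IsCompPt Fx w), preimMult (sm d) ξ w hw.1 = 1 := fun w hw =>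
    preimMult_fixed hπ hG hQ hjp hjq hdp hdq he ((hFx w).1 hw.1).1 ((hFx w).1 hw.1).2 hw.1
  have hpull := T.cl_pull d ξ hdim (Or.inr hmult)
  have htf := trace_formula T G hQ j d hjp hjq hdp hdq
  rw [comm_even T (T.cl_mem Q _) (T.cl_mem Q (sm d (genericPoint Xb.obj.left))), tr_cl_section T d pr hdp, hpull] at htf
  haveI : Finite {w : Xb.obj.left // IsCompPt Fx w} :=
    (hfin.subset fun w hw => hw.1 : {w | IsCompPt Fx w}.Finite).to_subtype
  haveI := Fintype.ofFinite {w : Xb.obj.left // IsCompPt Fx w}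
  rw [finsum_eq_sum_of_fintype, map_sum, Finset.sum_congr rfl (g := fun _ => (1 : K)) fun w _ => by
    rw [map_smul, hmult w.1 w.2, tr_cl_of_isClosed T Xb w.1 ((hFx w.1).1 w.2.1).1, Nat.cast_one, one_smul]] at htf
  rw [← htf, Finset.sum_const, Finset.card_univ, nsmul_one, ← Nat.card_eq_fintype_card,
    Nat.card_congr (Equiv.subtypeEquivRight fun w => ((hcomp w).trans (hFx w)))]

end graph

end Groth.Agent.WC97
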