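import Mathlib

/-! Smooth schemes over a field are reduced. -/

set_option autoImplicit false
universe u

noncomputable section

open AlgebraicGeometry CategoryTheory TensorProduct

namespace Groth.Agent.WC97

theorem isReduced_of_isStandardSmooth (k S : Type u) [Field k] [CommRing S] [Algebra k S]
    [h : Algebra.IsStandardSmooth k S] : _root_.IsReduced S := by
  have h' : (algebraMap k S).IsStandardSmooth := RingHom.isStandardSmooth_algebraMap.2 h
  obtain ⟨n, g, hg, het⟩ := h'.exists_etale_mvPolynomial
  algebraize [g]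
  let P := MvPolynomial (Fin n) k
  let K := FractionRing P
  have : Algebra.Etale P S := het
  have : _root_.IsReduced (K ⊗[P] S) := Algebra.FormallyUnramified.isReduced_of_field K _
  exact isReduced_of_injective (Algebra.TensorProduct.includeRight : S →ₐ[P] K ⊗[P] S)
    (Algebra.TensorProduct.includeRight_injective (IsFractionRing.injective P K))

theorem isReduced_of_algebraSmooth (k S : Type u) [Field k] [CommRing S] [Algebra k S]
    [Algebra.Smooth k S] : _root_.IsReduced S := by
  refine ⟨fun x hx => ?_⟩
  by_contra h0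
  have hne : (Ideal.torsionOf S S x) ≠ ⊤ := fun h => h0 (by
    simpa [Ideal.torsionOf] using (Ideal.eq_top_iff_one _).1 h)
  obtain ⟨m, hm, hle⟩ := Ideal.exists_le_maximal _ hne
  obtain ⟨f, hf, hsm⟩ := Algebra.IsSmoothAt.exists_notMem_isStandardSmooth (R := k) m
  have := isReduced_of_isStandardSmooth k (Localization.Away f)
  have hx0 : algebraMap S (Localization.Away f) x = 0 := (hx.map _).eq_zero
  obtain ⟨⟨c, j, rfl⟩, hc⟩ := (IsLocalization.map_eq_zero_iff (Submonoid.powers f) _ x).1 hx0
  exact hf (hm.isPrime.mem_of_pow_mem j (hle (by simpa [Ideal.torsionOf, mul_comm] using hc)))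

theorem isReduced_of_smooth {k : Type u} [Field k] {X : Scheme.{u}} (f : X ⟶ Spec (.of k))
    [Smooth f] : AlgebraicGeometry.IsReduced X := by
  have : ∀ x : X, _root_.IsReduced (X.presheaf.stalk x) := by
    intro x
    obtain ⟨U, hU, hx, -⟩ := exists_isAffineOpen_mem_and_subset (U := ⊤) (show x ∈ (⊤ : X.Opens) from trivial)
    have h : Smooth (Spec.map (Spec.preimage (hU.fromSpec ≫ f))) := by
      rw [Spec.map_preimage]; infer_instance
    let φ : k →+* Γ(X, U) := (Spec.preimage (hU.fromSpec ≫ f)).hom
    have hφ : φ.Smooth := (HasRingHomProperty.Spec_iff (P := @Smooth)).1 h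
    letI : Algebra k Γ(X, U) := φ.toAlgebra
    have : Algebra.Smooth k Γ(X, U) := hφ
    have := isReduced_of_algebraSmooth k Γ(X, U)
    letI := X.presheaf.algebra_section_stalk ⟨x, hx⟩
    have := hU.isLocalization_stalk ⟨x, hx⟩
    exact isReduced_localizationPreserves (hU.primeIdealOf ⟨x, hx⟩).asIdeal.primeCompl _ ‹_root_.IsReduced Γ(X, U)›
  exact isReduced_of_isReduced_stalk X

end Groth.Agent.WC97
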