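import Groth.Prelude.Def_WeilCoh
import Groth.Agent.E4O.DimField
import Groth.Agent.TopDim50.Basic
import Groth.Agent.LC17.SpecDim
import Mathlib.AlgebraicGeometry.AlgClosed.Basic
import Mathlib.RingTheory.Localization.Integral

/-! Dimension of point closures of schemes locally of finite type over a field:
`pdim ξ` is the transcendence degree of the residue field. -/

set_option autoImplicit false
universe u

noncomputable section

open CategoryTheory AlgebraicGeometry TopologicalSpace

namespace Groth.Agent.WC97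

variable {k : Type u} [Field k] {X Y : Scheme.{u}}

/-- The structure map `k → κ(x)`. -/
def kStr (f : X ⟶ Spec (.of k)) (x : X) : k →+* X.residueField x :=
  (Spec.preimage (X.fromSpecResidueField x ≫ f)).hom

lemma kStr_spec (f : X ⟶ Spec (.of k)) (x : X) :
    Spec.map (CommRingCat.ofHom (kStr f x)) = X.fromSpecResidueField x ≫ f :=
  Spec.map_preimage _

/-- transcendence degree of the residue field, as a cardinal -/
def tdeg (f : X ⟶ Spec (.of k)) (x : X) : Cardinal.{u} :=
  letI := (kStr f x).toAlgebra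
  Algebra.trdeg k (X.residueField x)

lemma kStr_comp (g : X ⟶ Y) (fX : X ⟶ Spec (.of k)) (fY : Y ⟶ Spec (.of k)) (h : g ≫ fY = fX)
    (x : X) : kStr fX x = (g.residueFieldMap x).hom.comp (kStr fY (g x)) := by
  have : CommRingCat.ofHom (kStr fX x) = CommRingCat.ofHom (kStr fY (g x)) ≫ g.residueFieldMap x := by
    apply Spec.map_injective
    rw [Spec.map_comp, kStr_spec, kStr_spec, Scheme.Hom.SpecMap_residueFieldMap_fromSpecResidueField_assoc, h]
  exact congrArg CommRingCat.Hom.hom this

lemma fromSpecResidueField_eq {U : X.Opens} (hU : IsAffineOpen U) {x : X} (hx : x ∈ U) :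
    X.fromSpecResidueField x = Spec.map (X.evaluation U x hx) ≫ hU.fromSpec := by
  rw [Scheme.fromSpecResidueField, ← hU.fromSpecStalk_eq_fromSpecStalk hx, IsAffineOpen.fromSpecStalk,
    ← Spec.map_comp_assoc]
  rfl

section chart

variable (f : X ⟶ Spec (.of k)) [LocallyOfFiniteType f] {U : X.Opens} (hU : IsAffineOpen U)
  {x : X} (hx : x ∈ U)

/-- `k → Γ(X, U)`. -/
def kSec : k →+* Γ(X, U) := (Spec.preimage (hU.fromSpec ≫ f)).hom

lemma kSec_finiteType : (kSec f hU).FiniteType := by
  have h : LocallyOfFiniteType (Spec.map (Spec.preimage (hU.fromSpec ≫ f))) := by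
    rw [Spec.map_preimage]; infer_instance
  exact (HasRingHomProperty.Spec_iff (P := @LocallyOfFiniteType)).1 h

omit [LocallyOfFiniteType f] in
lemma kStr_eq : kStr f x = (X.evaluation U x hx).hom.comp (kSec f hU) := by
  have : CommRingCat.ofHom (kStr f x) = CommRingCat.ofHom (kSec f hU) ≫ X.evaluation U x hx := by
    apply Spec.map_injective
    rw [Spec.map_comp, kStr_spec, fromSpecResidueField_eq hU hx, Category.assoc]
    congr 1
    exact (Spec.map_preimage _).symm
  exact congrArg CommRingCat.Hom.hom this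

include hU in
lemma ker_evaluation : RingHom.ker (X.evaluation U x hx).hom = (hU.primeIdealOf ⟨x, hx⟩).asIdeal := by
  rw [hU.primeIdealOf_eq_map_closedPoint, Scheme.evaluation, CommRingCat.hom_comp, ← RingHom.comap_ker]
  exact congrArg (Ideal.comap _) IsLocalRing.ker_residue

include hU in
lemma evaluation_div (z : X.residueField x) :
    ∃ a b : Γ(X, U), X.evaluation U x hx b ≠ 0 ∧ z = X.evaluation U x hx a / X.evaluation U x hx b := by
  obtain ⟨s, hs⟩ := X.residue_surjective x z
  let := X.presheaf.algebra_section_stalk ⟨x, hx⟩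
  have := hU.isLocalization_stalk ⟨x, hx⟩
  obtain ⟨⟨a, b⟩, hab⟩ := IsLocalization.surj (hU.primeIdealOf ⟨x, hx⟩).asIdeal.primeCompl s
  have hb : X.evaluation U x hx b ≠ 0 := fun h0 =>
    b.2 ((ker_evaluation hU hx).le h0)
  refine ⟨a, b, hb, ?_⟩
  rw [eq_div_iff hb, ← hs]
  exact ((map_mul (X.residue x).hom _ _).symm.trans (congrArg (X.residue x).hom hab))

lemma tdeg_eq_trdeg_quotient :
    letI := (kSec f hU).toAlgebra
    Algebra.trdeg k (Γ(X, U) ⧸ (hU.primeIdealOf ⟨x, hx⟩).asIdeal) = tdeg f x := by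
  letI a1 : Algebra k Γ(X, U) := (kSec f hU).toAlgebra
  let S := Γ(X, U) ⧸ (hU.primeIdealOf ⟨x, hx⟩).asIdeal
  letI a2 : Algebra k (X.residueField x) := (kStr f x).toAlgebra
  let ψ : S →+* X.residueField x := Ideal.Quotient.lift _ (X.evaluation U x hx).hom fun a ha => by
    rwa [← ker_evaluation hU hx] at ha
  letI a3 : Algebra S (X.residueField x) := ψ.toAlgebra
  have : IsScalarTower k S (X.residueField x) := .of_algebraMap_eq fun r => by
    show kStr f x r = _
    rw [kStr_eq f hU hx]; rfl
  have hinj : Function.Injective (algebraMap S (X.residueField x)) := by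
    rw [injective_iff_map_eq_zero]
    intro s hs
    obtain ⟨a, rfl⟩ := Ideal.Quotient.mk_surjective s
    rw [Ideal.Quotient.eq_zero_iff_mem, ← ker_evaluation hU hx]
    exact hs
  have : FaithfulSMul S (X.residueField x) := (faithfulSMul_iff_algebraMap_injective _ _).2 hinj
  have : IsFractionRing S (X.residueField x) := by
    refine IsFractionRing.of_field S _ fun z => ?_
    obtain ⟨a, b, -, h⟩ := evaluation_div hU hx z
    exact ⟨Ideal.Quotient.mk _ a, Ideal.Quotient.mk _ b, h⟩
  have : Algebra.IsAlgebraic S (X.residueField x) := IsLocalization.isAlgebraic _ (nonZeroDivisors S)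
  show Algebra.trdeg k S = Algebra.trdeg k (X.residueField x)
  rw [← trdeg_add_eq k S (A := X.residueField x), trdeg_eq_zero (R := S) (A := X.residueField x), add_zero]

end chart

variable (f : X ⟶ Spec (.of k)) [LocallyOfFiniteType f]

/-- natural number transcendence degree -/
def tdegN (x : X) : ℕ := Cardinal.toNat (tdeg f x)

lemma tdeg_lt_aleph0 (x : X) : tdeg f x < Cardinal.aleph0 := by
  obtain ⟨U, hU, hx, -⟩ := exists_isAffineOpen_mem_and_subset (U := ⊤) (show x ∈ (⊤ : X.Opens) from trivial)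
  rw [← tdeg_eq_trdeg_quotient f hU hx]
  letI : Algebra k Γ(X, U) := (kSec f hU).toAlgebra
  have : Algebra.FiniteType k Γ(X, U) := kSec_finiteType f hU
  have : Algebra.FiniteType k (Γ(X, U) ⧸ (hU.primeIdealOf ⟨x, hx⟩).asIdeal) :=
    .of_surjective (Ideal.Quotient.mkₐ k _) (Ideal.Quotient.mkₐ_surjective k _)
  exact trdeg_lt_aleph0_of_finiteType (R := k) (S := Γ(X, U) ⧸ (hU.primeIdealOf ⟨x, hx⟩).asIdeal)

lemma tdeg_eq_natCast (x : X) : tdeg f x = (tdegN f x : Cardinal.{u}) :=
  (Cardinal.cast_toNat_of_lt_aleph0 (tdeg_lt_aleph0 f x)).symm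

lemma ringKrullDim_quotient {U : X.Opens} (hU : IsAffineOpen U) {x : X} (hx : x ∈ U) :
    ringKrullDim (Γ(X, U) ⧸ (hU.primeIdealOf ⟨x, hx⟩).asIdeal) = (tdegN f x : ℕ) := by
  letI : Algebra k Γ(X, U) := (kSec f hU).toAlgebra
  have : Algebra.FiniteType k Γ(X, U) := kSec_finiteType f hU
  have : Algebra.FiniteType k (Γ(X, U) ⧸ (hU.primeIdealOf ⟨x, hx⟩).asIdeal) :=
    .of_surjective (Ideal.Quotient.mkₐ k _) (Ideal.Quotient.mkₐ_surjective k _)
  rw [E4O.ringKrullDim_eq_trdeg k, tdegN, tdeg_eq_trdeg_quotient f hU hx]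

lemma dim_closure_inter_affine {U : X.Opens} (hU : IsAffineOpen U) {x : X} (hx : x ∈ U) :
    topologicalKrullDim ↥((Subtype.val : closure ({x} : Set X) → X) ⁻¹' (U : Set X)) =
      (tdegN f x : ℕ) := by
  let p := hU.primeIdealOf ⟨x, hx⟩
  have hp : hU.fromSpec p = x := hU.fromSpec_primeIdealOf ⟨x, hx⟩
  have hpre : hU.fromSpec ⁻¹' closure ({x} : Set X) = PrimeSpectrum.zeroLocus (p.asIdeal : Set Γ(X, U)) := by
    have h1 := hU.fromSpec.isOpenEmbedding.isOpenMap.preimage_closure_eq_closure_preimage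
      hU.fromSpec.continuous ({x} : Set X)
    rw [h1]
    have h2 : hU.fromSpec ⁻¹' ({x} : Set X) = {p} := by
      ext q
      simp only [Set.mem_preimage, Set.mem_singleton_iff]
      exact ⟨fun h => hU.fromSpec.isOpenEmbedding.injective (h.trans hp.symm), fun h => h ▸ hp⟩
    rw [h2]
    exact PrimeSpectrum.closure_singleton p
  rw [← ringKrullDim_quotient f hU hx, ← LC17.dim_zeroLocus p.asIdeal]
  refine (IsHomeomorph.topologicalKrullDim_eq
    (fun q : ↥(PrimeSpectrum.zeroLocus (p.asIdeal : Set Γ(X, U))) =>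
      (⟨⟨hU.fromSpec q.1, (Set.ext_iff.1 hpre q.1).2 q.2⟩,
        (Set.ext_iff.1 hU.range_fromSpec _).1 ⟨q.1, rfl⟩⟩ :
          ↥((Subtype.val : closure ({x} : Set X) → X) ⁻¹' (U : Set X)))) ?_).symm
  refine (isHomeomorph_iff_isEmbedding_surjective).2 ⟨?_, ?_⟩
  · refine Topology.IsEmbedding.of_comp ?_ (continuous_subtype_val.comp continuous_subtype_val) ?_
    · exact Continuous.subtype_mk (Continuous.subtype_mk (hU.fromSpec.continuous.comp continuous_subtype_val) _) _
    · exact hU.fromSpec.isOpenEmbedding.isEmbedding.comp Topology.IsEmbedding.subtypeVal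
  · rintro ⟨⟨z, hz⟩, hzU⟩
    obtain ⟨q, rfl⟩ := (Set.ext_iff.1 hU.range_fromSpec z).2 hzU
    exact ⟨⟨q, (Set.ext_iff.1 hpre q).1 hz⟩, rfl⟩

include f in
theorem topologicalKrullDim_closure (x : X) :
    topologicalKrullDim ↥(closure ({x} : Set X)) = (tdegN f x : ℕ) := by
  let W : X.affineOpens → Set ↥(closure ({x} : Set X)) := fun U => Subtype.val ⁻¹' (U.1 : Set X)
  have hcov : ⋃ U, W U = Set.univ := by
    refine Set.eq_univ_of_forall fun z => ?_
    obtain ⟨U, hU, hz, -⟩ := exists_isAffineOpen_mem_and_subset (U := ⊤) (show z.1 ∈ (⊤ : X.Opens) from trivial)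
    exact Set.mem_iUnion.2 ⟨⟨U, hU⟩, hz⟩
  rw [TopDim50.dim_eq_iSup_of_open_cover W (fun U => U.1.2.preimage continuous_subtype_val) hcov]
  refine le_antisymm (iSup_le fun U => ?_) ?_
  · by_cases hx : x ∈ U.1
    · exact (dim_closure_inter_affine f U.2 hx).le
    · have : IsEmpty (W U) := ⟨fun z => hx (((specializes_iff_mem_closure.2 z.1.2).mem_open U.1.2 z.2))⟩
      rw [topologicalKrullDim, Order.krullDim_eq_bot_iff.2]
      · exact bot_le
      · exact ⟨fun Z => by obtain ⟨z, -⟩ := Z.isIrreducible.nonempty; exact isEmptyElim z⟩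
  · obtain ⟨U, hU, hx, -⟩ := exists_isAffineOpen_mem_and_subset (U := ⊤) (show x ∈ (⊤ : X.Opens) from trivial)
    exact (dim_closure_inter_affine f hU hx).ge.trans (le_iSup (fun U => topologicalKrullDim ↥(W U)) ⟨U, hU⟩)

include f in
theorem pdim_eq (x : X) : WeilCoh.pdim X x = tdegN f x := by
  rw [WeilCoh.pdim, WeilCoh.natDim, topologicalKrullDim_closure f x]; rfl

include f in
theorem dim_eq [IrreducibleSpace X] :
    topologicalKrullDim X = (tdegN f (genericPoint X) : ℕ) ∧ WeilCoh.dim X = tdegN f (genericPoint X) := by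
  have hc : closure ({genericPoint X} : Set X) = Set.univ := genericPoint_spec X
  have h : topologicalKrullDim X = (tdegN f (genericPoint X) : ℕ) := by
    rw [← topologicalKrullDim_closure f, hc]
    exact ((Homeomorph.Set.univ X).isHomeomorph.topologicalKrullDim_eq _).symm
  refine ⟨h, ?_⟩
  rw [WeilCoh.dim, WeilCoh.natDim, h]; rfl

include f in
theorem pdim_genericPoint [IrreducibleSpace X] : WeilCoh.pdim X (genericPoint X) = WeilCoh.dim X := by
  rw [pdim_eq f, (dim_eq f).2]

include f in
theorem pdim_le_dim [IrreducibleSpace X] (x : X) : WeilCoh.pdim X x ≤ WeilCoh.dim X := by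
  have h := TopDim50.dim_mono (X := X) (Set.subset_univ (closure ({x} : Set X)))
  rw [topologicalKrullDim_closure f x, IsHomeomorph.topologicalKrullDim_eq _ (Homeomorph.Set.univ X).isHomeomorph,
    (dim_eq f).1] at h
  rw [pdim_eq f, (dim_eq f).2]
  exact_mod_cast h

variable {g : X ⟶ Y} {fY : Y ⟶ Spec (.of k)} [LocallyOfFiniteType fY]

include f in
theorem pdim_le_of_map (h : g ≫ fY = f) (x : X) : WeilCoh.pdim Y (g x) ≤ WeilCoh.pdim X x := by
  rw [pdim_eq f, pdim_eq fY]
  letI a1 : Algebra k (X.residueField x) := (kStr f x).toAlgebra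
  letI a2 : Algebra k (Y.residueField (g x)) := (kStr fY (g x)).toAlgebra
  let φ : Y.residueField (g x) →ₐ[k] X.residueField x :=
    { (g.residueFieldMap x).hom with
      commutes' := fun r => (RingHom.congr_fun (kStr_comp g f fY h x) r).symm }
  have := trdeg_le_of_injective φ (RingHom.injective _)
  exact Cardinal.toNat_le_toNat this (tdeg_lt_aleph0 f x)

include f in
theorem pdim_eq_of_residueDegree_ne_zero (h : g ≫ fY = f) (x : X) (hd : g.residueDegree x ≠ 0) :
    WeilCoh.pdim Y (g x) = WeilCoh.pdim X x := by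
  rw [pdim_eq f, pdim_eq fY]
  letI a1 : Algebra k (X.residueField x) := (kStr f x).toAlgebra
  letI a2 : Algebra k (Y.residueField (g x)) := (kStr fY (g x)).toAlgebra
  letI a3 : Algebra (Y.residueField (g x)) (X.residueField x) := (g.residueFieldMap x).hom.toAlgebra
  have : IsScalarTower k (Y.residueField (g x)) (X.residueField x) :=
    .of_algebraMap_eq fun r => RingHom.congr_fun (kStr_comp g f fY h x) r
  have : Module.Finite (Y.residueField (g x)) (X.residueField x) :=
    Module.finite_of_finrank_pos (Nat.pos_of_ne_zero hd)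
  show Cardinal.toNat (Algebra.trdeg k (Y.residueField (g x))) = Cardinal.toNat (Algebra.trdeg k (X.residueField x))
  rw [← trdeg_add_eq k (Y.residueField (g x)) (A := X.residueField x),
    trdeg_eq_zero (R := Y.residueField (g x)) (A := X.residueField x), add_zero]

include f in
theorem pdim_of_isClosed [IsAlgClosed k] {x : X} (hx : IsClosed ({x} : Set X)) : WeilCoh.pdim X x = 0 := by
  rw [WeilCoh.pdim, WeilCoh.natDim, hx.closure_eq]
  have : topologicalKrullDim ↥({x} : Set X) = 0 := by
    refine le_antisymm (topologicalKrullDim_zero_of_discreteTopology _) ?_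
    exact TopDim50.dim_nonneg
  rw [this]; rfl

end Groth.Agent.WC97
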