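import Groth.Agent.WC97.Points
import Groth.Prelude.Def_Cyc
import Groth.Prelude.Def_ChowOps

/-! Classes of cycles: push-forward and degree. -/

set_option autoImplicit false
universe u v

noncomputable section

open CategoryTheory AlgebraicGeometry WeilCoh

namespace Groth.Agent.WC97

variable {k : Type u} [Field k]

theorem delta_eq_pdim {X : Scheme.{u}} (f : X ⟶ Spec (.of k)) [LocallyOfFiniteType f]
    (δ : X → ℤ) (hδ : Cyc.DeltaCompat f δ (fun _ => 0)) (x : X) : δ x = pdim X x := by
  obtain ⟨n, hn, hd⟩ := hδ x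
  rw [hd, pdim_eq f, zero_add, Int.natCast_inj]
  letI a1 : Algebra k (X.residueField x) := (kStr f x).toAlgebra
  letI a2 : Algebra k ((Spec (CommRingCat.of k)).residueField (f x)) := (kStr (𝟙 _) (f x)).toAlgebra
  letI a3 : Algebra ((Spec (CommRingCat.of k)).residueField (f x)) (X.residueField x) := (f.residueFieldMap x).hom.toAlgebra
  have : IsScalarTower k ((Spec (CommRingCat.of k)).residueField (f x)) (X.residueField x) :=
    .of_algebraMap_eq fun r => RingHom.congr_fun (kStr_comp f f (𝟙 _) (Category.comp_id _) x) r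
  have halg : Algebra.IsAlgebraic k ((Spec (CommRingCat.of k)).residueField (f x)) :=
    ⟨fun z => by obtain ⟨c, rfl⟩ := (kStr_id_bijective (f x)).2 z; exact isAlgebraic_algebraMap c⟩
  have h := trdeg_add_eq k ((Spec (CommRingCat.of k)).residueField (f x)) (A := X.residueField x)
  rw [trdeg_eq_zero (R := k) (A := (Spec (CommRingCat.of k)).residueField (f x)), zero_add] at h
  show n = Cardinal.toNat (Algebra.trdeg k (X.residueField x))
  rw [← h, hn, Cardinal.toNat_natCast]

theorem finite_support_cycle (X : Var k) (α : AlgebraicCycle X.obj.left ℤ) :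
    (Function.support α).Finite := by
  have := isProper_var X
  have : CompactSpace X.obj.left := QuasiCompact.compactSpace_of_compactSpace X.obj.hom
  have h := LocallyFiniteSupport.finite_inter_support_of_isCompact
    (Function.locallyFinsupp.locallyFiniteSupport α) (W := Set.univ) isCompact_univ
  rw [Set.univ_inter] at h
  exact h

variable [IsAlgClosed k] {K : Type v} [Field K] [CharZero K] (T : Theory k K)

theorem mapCoeff_eq {X Y : Var k} (f : X ⟶ Y) (δX : X.obj.left → ℤ) (hδX : Cyc.DeltaCompat X.obj.hom δX (fun _ => 0))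
    (δY : Y.obj.left → ℤ) (hδY : Cyc.DeltaCompat Y.obj.hom δY (fun _ => 0)) (x : X.obj.left) :
    AlgebraicCycle.mapCoeff (sm f) δX δY x = (sm f).residueDegree x := by
  rw [AlgebraicCycle.mapCoeff]
  split_ifs with h
  · rfl
  · by_contra hne
    refine h ?_
    rw [delta_eq_pdim X.obj.hom δX hδX, delta_eq_pdim Y.obj.hom δY hδY]
    exact congrArg Nat.cast (pdim_image f x (Ne.symm hne)).symm

theorem tr_clCyc_map {X Y : Var k} (f : X ⟶ Y) [QuasiCompact (sm f)]
    (δX : X.obj.left → ℤ) (hδX : Cyc.DeltaCompat X.obj.hom δX (fun _ => 0))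
    (δY : Y.obj.left → ℤ) (hδY : Cyc.DeltaCompat Y.obj.hom δY (fun _ => 0))
    (α : AlgebraicCycle X.obj.left ℤ) (b : T.H Y) :
    T.tr Y (T.clCyc Y (AlgebraicCycle.map (sm f) δX δY α) * b) = T.tr X (T.clCyc X α * T.pull f b) := by
  classical
  let S := (finite_support_cycle X α).toFinset
  let β := AlgebraicCycle.map (sm f) δX δY α
  let w : X.obj.left → ℤ := fun x => α x * ((sm f).residueDegree x : ℤ)
  have hβ : ∀ z, β z = ∑ x ∈ Finset.filter (fun x => sm f x = z) S, w x := by
    intro z
    show ∑ᶠ x ∈ (sm f) ⁻¹' {z}, α x * ((AlgebraicCycle.mapCoeff (sm f) δX δY x : ℕ) : ℤ) = _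
    rw [finsum_mem_eq_sum_of_inter_support_eq _ (t := Finset.filter (fun x => sm f x = z) S)]
    · exact Finset.sum_congr rfl fun x _ => by rw [mapCoeff_eq f δX hδX δY hδY]
    · ext x
      simp only [Set.mem_inter_iff, Set.mem_preimage, Set.mem_singleton_iff, Function.mem_support, Finset.coe_filter,
        Set.mem_setOf_eq, S, Set.Finite.mem_toFinset]
      constructor
      · rintro ⟨h1, h2⟩
        exact ⟨⟨fun h0 => h2 (by rw [h0, zero_mul]), h1⟩, h2⟩
      · rintro ⟨⟨-, h1⟩, h2⟩
        exact ⟨h1, h2⟩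
  have h1 : T.clCyc Y β = ∑ x ∈ S, (w x : K) • T.cl Y (sm f x) := by
    rw [TheoryOn.clCyc, finsum_eq_sum_of_support_subset _ (s := S.image (sm f))]
    · rw [Finset.sum_congr rfl fun z _ => by rw [hβ z, Int.cast_sum, Finset.sum_smul]]
      rw [← Finset.sum_fiberwise_of_maps_to (fun x hx => Finset.mem_image_of_mem (sm f) hx) (fun x => (w x : K) • T.cl Y (sm f x))]
      refine Finset.sum_congr rfl fun z _ => Finset.sum_congr rfl fun x hx => ?_
      rw [(Finset.mem_filter.1 hx).2]
    · intro z hz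
      by_contra h0
      refine hz ?_
      show ((β z : ℤ) : K) • T.cl Y z = 0
      rw [hβ z, Finset.sum_eq_zero, Int.cast_zero, zero_smul]
      intro x hx
      obtain ⟨hx1, rfl⟩ := Finset.mem_filter.1 hx
      exact absurd (Finset.mem_image_of_mem (sm f) hx1) h0
  have h2 : T.clCyc X α = ∑ x ∈ S, ((α x : ℤ) : K) • T.cl X x := by
    rw [TheoryOn.clCyc, finsum_eq_sum_of_support_subset _ (s := S)]
    intro x hx
    simp only [S, Set.Finite.coe_toFinset, Function.mem_support] at hx ⊢
    exact fun h0 => hx (by rw [h0, Int.cast_zero, zero_smul])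
  rw [h1, h2, Finset.sum_mul, Finset.sum_mul, map_sum, map_sum]
  refine Finset.sum_congr rfl fun x _ => ?_
  simp only [w, smul_mul_assoc, map_smul, smul_eq_mul, Int.cast_mul, Int.cast_natCast]
  rw [tr_cl_mul_pull, mul_assoc]

theorem deg_eq_tr (X : Var k) [QuasiCompact X.obj.hom]
    (δ : X.obj.left → ℤ) (hδ : Cyc.DeltaCompat X.obj.hom δ (fun _ => 0))
    (α : AlgebraicCycle X.obj.left ℤ) (hα : α ∈ Cyc.Zk X.obj.left δ 0) :
    (ChowOps.deg X.obj.hom δ α : K) = T.tr X (T.clCyc X α) := by
  haveI : QuasiCompact (sm (toPt X)) := inferInstanceAs (QuasiCompact X.obj.hom)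
  have hpt : Cyc.DeltaCompat (pt X).obj.hom (fun _ => 0) (fun _ => (0 : ℤ)) := by
    intro o
    refine ⟨0, ?_, by simp⟩
    letI a1 := (((pt X).obj.hom).residueFieldMap o).hom.toAlgebra
    have hs : Function.Surjective (((pt X).obj.hom).residueFieldMap o).hom := by
      have h0 : (((pt X).obj.hom).residueFieldMap o) = 𝟙 _ := Scheme.residueFieldMap_id o
      rw [h0]; exact Function.surjective_id
    have : Algebra.IsAlgebraic ((Spec (CommRingCat.of k)).residueField ((pt X).obj.hom o)) ((pt X).obj.left.residueField o) :=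
      ⟨fun z => by obtain ⟨c, rfl⟩ := hs z; exact isAlgebraic_algebraMap c⟩
    rw [trdeg_eq_zero]; simp
  have h := tr_clCyc_map T (toPt X) δ hδ (fun _ => 0) hpt α 1
  rw [map_one, mul_one, mul_one] at h
  refine Eq.trans ?_ h
  obtain ⟨hcl, htr⟩ := T.point (pt X) (dim_pt X)
  haveI : Subsingleton (pt X).obj.left := inferInstanceAs (Subsingleton (Spec (CommRingCat.of k)))
  let o : (pt X).obj.left := genericPoint (pt X).obj.left
  rw [TheoryOn.clCyc, finsum_eq_single _ o
    (fun y hy => absurd (Subsingleton.elim y o) hy), map_smul, hcl, htr, smul_eq_mul, mul_one]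
  have ho : o = (IsLocalRing.closedPoint k : Spec (CommRingCat.of k)) := Subsingleton.elim _ _
  rw [ho]
  rfl

end Groth.Agent.WC97
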