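import Groth.Agent.WC97.Frob
import Groth.Agent.WC97.Prod
import Groth.Agent.WC97.LinAlg

/-! Poincaré duality for the Frobenius endomorphism and the functional equation. -/

set_option autoImplicit false
universe u v

noncomputable section

open CategoryTheory AlgebraicGeometry WeilCoh Polynomial

namespace Groth.Agent.WC97

variable {k₀ : Type u} [Field k₀] [Finite k₀] {k : Type u} [Field k] [IsAlgClosed k] [Algebra k₀ k]
  {K : Type v} [Field K] [CharZero K] (T : Theory k K)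
  {X : Scheme.{u}} {f : X ⟶ Spec (.of k₀)} {Xb : Var k} {π : Xb.obj.left ⟶ X}
  (hπ : IsPullback π Xb.obj.hom f (Spec.map (CommRingCat.ofHom (algebraMap k₀ k))))
  {F : Xb ⟶ Xb}

/-- `F` is the `q`-Frobenius, `q = #k₀`. -/
def IsQFrob (k₀ : Type u) [Field k₀] {k : Type u} [Field k] {X : Scheme.{u}} {Xb : Var k}
    (π : Xb.obj.left ⟶ X) (F : Xb ⟶ Xb) : Prop :=
  ∃ (p e : ℕ), p.Prime ∧ CharP k p ∧ e ≠ 0 ∧ Nat.card k₀ = p ^ e ∧ IsFrob p e π F

theorem isQFrob_of_absolute (FX : X ⟶ X) (hFb : FX.base = 𝟙 _) (hle : ∀ U : X.Opens, U ≤ FX ⁻¹ᵁ U)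
    (hFapp : ∀ (U : X.Opens) (s : Γ(X, U)), (FX.appLE U U (hle U)).hom s = s ^ Nat.card k₀)
    (hF : sm F ≫ π = π ≫ FX) : IsQFrob k₀ π F := by
  haveI := Fintype.ofFinite k₀
  obtain ⟨p, hp⟩ := CharP.exists k₀
  obtain ⟨⟨n, hn⟩, hpp, hc⟩ := FiniteField.card k₀ p
  rw [← Nat.card_eq_fintype_card] at hc
  refine ⟨p, n, hpp, charP_of_injective_ringHom (algebraMap k₀ k).injective p, by omega, hc, ?_⟩
  exact isFrob_of_absolute FX hFb hle (fun U s => by rw [hFapp, hc]; rfl) hF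

include hπ

theorem tr_pull_frob (hF : IsQFrob k₀ π F) (a : T.H Xb) :
    T.tr Xb (T.pull F a) = (Nat.card k₀ : K) ^ dim Xb.obj.left * T.tr Xb a := by
  obtain ⟨p, e, hp, hchar, he, hc, hFr⟩ := hF
  haveI := Fact.mk hp
  haveI := hchar
  rw [tr_pull_of_dominant T F (frob_genericPoint hπ hFr) a, residueDegree_frob hπ hFr, pdim_gp, hc, Nat.cast_pow]

theorem adjoint_frob (hF : IsQFrob k₀ π F) (i : ℤ) :
    LinearMap.det (T.pullDeg F (D Xb - i)) * LinearMap.det (T.pullDeg F i) =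
      (Nat.card k₀ : K) ^ (dim Xb.obj.left * Module.finrank K (T.gr Xb i)) ∧
    LinearMap.det (T.pullDeg F i) • (LinearMap.charpoly (T.pullDeg F (D Xb - i))).reverse =
      (-1 : Polynomial K) ^ Module.finrank K (T.gr Xb i) *
        (LinearMap.charpoly (T.pullDeg F i)).comp
          (C ((Nat.card k₀ : K) ^ dim Xb.obj.left) * Polynomial.X) ∧
    Module.finrank K (T.gr Xb (D Xb - i)) = Module.finrank K (T.gr Xb i) := by
  haveI := T.duality Xb i (D Xb - i) (by unfold D; omega)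
  have h := adjoint_pair (pairing K (T.gr Xb i) (T.gr Xb (D Xb - i)) (T.tr Xb)) (T.pullDeg F i)
    (T.pullDeg F (D Xb - i)) ((Nat.card k₀ : K) ^ dim Xb.obj.left) fun v w => by
      show T.tr Xb (T.pull F (v : T.H Xb) * T.pull F (w : T.H Xb)) = _ * T.tr Xb ((v : T.H Xb) * (w : T.H Xb))
      rw [← map_mul (T.pull F), tr_pull_frob T hπ hF]
  refine ⟨?_, h.2.1, h.2.2⟩
  rw [h.1, pow_mul]

omit hπ
omit [Finite k₀] [Algebra k₀ k]

theorem finrank_symm (Y : Var k) {i j : ℤ} (h : i + j = D Y) :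
    Module.finrank K (T.gr Y j) = Module.finrank K (T.gr Y i) := by
  haveI := T.duality Y i j h
  obtain ⟨f, -⟩ := exists_dual_basis (pairing K (T.gr Y i) (T.gr Y j) (T.tr Y)) (Module.finBasis K (T.gr Y i))
  rw [Module.finrank_eq_card_basis f, Fintype.card_fin]

theorem even_middle (Y : Var k) (hn : Odd (dim Y.obj.left)) :
    Even (Module.finrank K (T.gr Y (dim Y.obj.left : ℤ))) := by
  haveI := T.duality Y (dim Y.obj.left) (dim Y.obj.left) (by omega)
  refine even_finrank_of_skew (pairing K (T.gr Y (dim Y.obj.left : ℤ)) (T.gr Y (dim Y.obj.left : ℤ)) (T.tr Y)) fun v w => ?_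
  show T.tr Y ((w : T.H Y) * (v : T.H Y)) = -T.tr Y ((v : T.H Y) * (w : T.H Y))
  rw [comm_hom T w.2 v.2, map_smul, smul_eq_mul, sgn, Int.natAbs_natCast, (hn.mul hn).neg_one_pow, neg_one_mul]

theorem sum_range_two_mul_succ {M : Type*} [AddCommMonoid M] (g : ℕ → M) (n : ℕ) :
    ∑ i ∈ Finset.range (2 * n + 1), g i =
      (∑ i ∈ Finset.range (n + 1), g (2 * i)) + ∑ i ∈ Finset.range n, g (2 * i + 1) := by
  induction n with
  | zero => simp
  | succ n ih =>
    rw [show 2 * (n + 1) + 1 = 2 * n + 1 + 1 + 1 by ring, Finset.sum_range_succ, Finset.sum_range_succ, ih,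
      Finset.sum_range_succ (f := fun i => g (2 * i)) (n := n + 1),
      Finset.sum_range_succ (f := fun i => g (2 * i + 1)) (n := n), show 2 * n + 1 + 1 = 2 * (n + 1) by ring]
    abel

/-- the Euler characteristic times the dimension is even -/
theorem even_mul_euler (Y : Var k) :
    Even ((dim Y.obj.left : ℤ) * ∑ i ∈ Finset.range (2 * dim Y.obj.left + 1),
      (-1 : ℤ) ^ i * (Module.finrank K (T.gr Y (i : ℤ)) : ℤ)) := by
  rcases Nat.even_or_odd (dim Y.obj.left) with hn | hn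
  · exact ((Int.even_coe_nat _).2 hn).mul_right _
  refine Even.mul_left ?_ _
  set d := dim Y.obj.left
  let b : ℕ → ZMod 2 := fun i => (Module.finrank K (T.gr Y (i : ℤ)) : ZMod 2)
  have key : ∑ i ∈ Finset.range (2 * d + 1), b i = 0 := by
    rw [← Finset.sum_erase_add _ _ (Finset.mem_range.2 (show d < 2 * d + 1 by omega))]
    have h1 : b d = 0 := by
      obtain ⟨m, hm⟩ := even_middle T Y hn
      show (Module.finrank K (T.gr Y (d : ℤ)) : ZMod 2) = 0
      rw [hm, Nat.cast_add, CharTwo.add_self_eq_zero]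
    rw [h1, add_zero]
    refine Finset.sum_involution (fun i _ => 2 * d - i) (fun i hi => ?_) (fun i hi _ => ?_) (fun i hi => ?_) (fun i hi => ?_)
    all_goals simp only [Finset.mem_erase, Finset.mem_range] at hi ⊢
    · have : b (2 * d - i) = b i := by
        refine congrArg Nat.cast (finrank_symm T Y (i := (i : ℤ)) ?_)
        show (i : ℤ) + ((2 * d - i : ℕ) : ℤ) = 2 * (d : ℤ)
        omega
      rw [this, CharTwo.add_self_eq_zero]
    all_goals omega
  refine ZMod.intCast_eq_zero_iff_even.1 ?_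
  push_cast
  simpa [CharTwo.neg_eq, b] using key

/-- values of a polynomial family at `1 / (q t)` -/
theorem functional_equation_aux (n : ℕ) (Q : K) (hQ : Q ≠ 0) (χ : ℕ → Polynomial K) (a : ℕ → K) (B : ℕ → ℕ)
    (ha : ∀ i ≤ 2 * n, a i * a (2 * n - i) = Q ^ B i) (hB : ∀ i ≤ 2 * n, B (2 * n - i) = B i)
    (hdeg : ∀ i, (χ i).natDegree = B i)
    (hrel : ∀ i ≤ 2 * n, a i • (χ (2 * n - i)).reverse = (-1 : Polynomial K) ^ B i * (χ i).comp (C Q * Polynomial.X))
    (q : K) (m : ℤ) (hm : q ^ (2 * m) = Q ^ (∑ i ∈ Finset.range (2 * n + 1), (-1 : ℤ) ^ i * (B i : ℤ))) (hq : q ≠ 0) :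
    ∃ ε : K, (ε = 1 ∨ ε = -1) ∧
      Polynomial.aeval ((RatFunc.X : RatFunc K)⁻¹ * RatFunc.C Q⁻¹) (∏ i ∈ Finset.range n, (χ (2 * i + 1)).reverse) /
        Polynomial.aeval ((RatFunc.X : RatFunc K)⁻¹ * RatFunc.C Q⁻¹) (∏ i ∈ Finset.range (n + 1), (χ (2 * i)).reverse) =
      RatFunc.C ε * RatFunc.C q ^ m *
        (RatFunc.X : RatFunc K) ^ (∑ i ∈ Finset.range (2 * n + 1), (-1 : ℤ) ^ i * (B i : ℤ)) *
        (algebraMap (Polynomial K) (RatFunc K) (∏ i ∈ Finset.range n, (χ (2 * i + 1)).reverse) /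
         algebraMap (Polynomial K) (RatFunc K) (∏ i ∈ Finset.range (n + 1), (χ (2 * i)).reverse)) := by
  let x : RatFunc K := RatFunc.X
  have hx : x ≠ 0 := RatFunc.X_ne_zero
  have hu : RatFunc.C Q * x ≠ 0 := mul_ne_zero ((_root_.map_ne_zero _).2 hQ) hx
  let T0 : RatFunc K := x⁻¹ * RatFunc.C Q⁻¹
  have hT0 : T0 = (RatFunc.C Q * x)⁻¹ := by
    show x⁻¹ * RatFunc.C Q⁻¹ = _
    rw [mul_inv, map_inv₀, mul_comm]
  have halg : ∀ P : Polynomial K, algebraMap (Polynomial K) (RatFunc K) P = aeval x P := by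
    intro P
    conv_lhs => rw [← Polynomial.aeval_X_left_apply P]
    rw [← Polynomial.aeval_algebraMap_apply, RatFunc.algebraMap_X]
  let s : ℕ → K := fun i => (-1) ^ B i * a i * (Q ^ B i)⁻¹
  have hval : ∀ i ≤ 2 * n, aeval T0 (χ i).reverse =
      RatFunc.C (s i) * (x ^ B i)⁻¹ * algebraMap (Polynomial K) (RatFunc K) (χ (2 * n - i)).reverse := by
    intro i hi
    have h1 : aeval T0 (χ i).reverse * (RatFunc.C Q * x) ^ B i = aeval (RatFunc.C Q * x) (χ i) := by
      letI := invertibleOfNonzero hu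
      have := Polynomial.eval₂_reverse_mul_pow (algebraMap K (RatFunc K)) (RatFunc.C Q * x) (χ i)
      rw [invOf_eq_inv, hdeg, ← hT0] at this
      exact this
    have h2 : RatFunc.C (a i) * algebraMap (Polynomial K) (RatFunc K) (χ (2 * n - i)).reverse =
        RatFunc.C ((-1) ^ B i) * aeval (RatFunc.C Q * x) (χ i) := by
      have := congrArg (algebraMap (Polynomial K) (RatFunc K)) (hrel i hi)
      rw [Polynomial.smul_eq_C_mul, map_mul, map_mul, RatFunc.algebraMap_C, map_pow, map_neg, map_one,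
        halg ((χ i).comp _), Polynomial.aeval_comp, map_mul, aeval_C, aeval_X] at this
      rw [this, map_pow, map_neg, map_one]
      rfl
    rw [← h1, mul_pow] at h2
    have hsq : ((-1 : K) ^ B i) * (-1) ^ B i = 1 := by rw [← mul_pow, neg_one_mul, neg_neg, one_pow]
    have h3 : RatFunc.C (s i) * algebraMap (Polynomial K) (RatFunc K) (χ (2 * n - i)).reverse = aeval T0 (χ i).reverse * x ^ B i := by
      have hs : s i = ((-1) ^ B i * (Q ^ B i)⁻¹) * a i := by show _ * _ * _ = _; ring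
      rw [hs, map_mul, mul_assoc, h2, ← map_pow, ← mul_assoc, ← map_mul,
        show (-1 : K) ^ B i * (Q ^ B i)⁻¹ * (-1) ^ B i = (Q ^ B i)⁻¹ by rw [mul_right_comm, hsq, one_mul],
        mul_left_comm, ← mul_assoc (RatFunc.C _) (RatFunc.C _) (x ^ B i), ← map_mul,
        inv_mul_cancel₀ (pow_ne_zero _ hQ), map_one, one_mul]
    rw [mul_right_comm, h3, mul_assoc, mul_inv_cancel₀ (pow_ne_zero _ hx), mul_one]
  let Se := ∑ i ∈ Finset.range (n + 1), B (2 * i)
  let So := ∑ i ∈ Finset.range n, B (2 * i + 1)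
  let re := ∏ i ∈ Finset.range (n + 1), s (2 * i)
  let ro := ∏ i ∈ Finset.range n, s (2 * i + 1)
  let Pe := ∏ i ∈ Finset.range (n + 1), (χ (2 * i)).reverse
  let Po := ∏ i ∈ Finset.range n, (χ (2 * i + 1)).reverse
  have he : aeval T0 Pe = RatFunc.C re * (x ^ Se)⁻¹ * algebraMap (Polynomial K) (RatFunc K) Pe := by
    show aeval T0 (∏ i ∈ _, _) = _
    rw [map_prod, Finset.prod_congr rfl fun i hi => hval (2 * i) (by have := Finset.mem_range.1 hi; omega),
      Finset.prod_mul_distrib, Finset.prod_mul_distrib, ← map_prod, Finset.prod_inv_distrib,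
      Finset.prod_pow_eq_pow_sum, ← map_prod]
    congr 2
    show _ = ∏ i ∈ _, _
    rw [← Finset.prod_range_reflect (fun i => (χ (2 * i)).reverse) (n + 1)]
    exact Finset.prod_congr rfl fun i hi => by
      have := Finset.mem_range.1 hi
      rw [show 2 * n - 2 * i = 2 * (n + 1 - 1 - i) by omega]
  have ho : aeval T0 Po = RatFunc.C ro * (x ^ So)⁻¹ * algebraMap (Polynomial K) (RatFunc K) Po := by
    show aeval T0 (∏ i ∈ _, _) = _
    rw [map_prod, Finset.prod_congr rfl fun i hi => hval (2 * i + 1) (by have := Finset.mem_range.1 hi; omega),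
      Finset.prod_mul_distrib, Finset.prod_mul_distrib, ← map_prod, Finset.prod_inv_distrib,
      Finset.prod_pow_eq_pow_sum, ← map_prod]
    congr 2
    show _ = ∏ i ∈ _, _
    rw [← Finset.prod_range_reflect (fun i => (χ (2 * i + 1)).reverse) n]
    exact Finset.prod_congr rfl fun i hi => by
      have := Finset.mem_range.1 hi
      rw [show 2 * n - (2 * i + 1) = 2 * (n - 1 - i) + 1 by omega]
  have hpair : ∀ i ≤ 2 * n, s i * s (2 * n - i) = (Q ^ B i)⁻¹ := by
    intro i hi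
    show (-1) ^ B i * a i * (Q ^ B i)⁻¹ * ((-1) ^ B (2 * n - i) * a (2 * n - i) * (Q ^ B (2 * n - i))⁻¹) = _
    rw [hB i hi]
    have hsq : ((-1 : K) ^ B i) * (-1) ^ B i = 1 := by rw [← mul_pow, neg_one_mul, neg_neg, one_pow]
    calc _ = ((-1 : K) ^ B i * (-1) ^ B i) * (a i * a (2 * n - i)) * (Q ^ B i)⁻¹ * (Q ^ B i)⁻¹ := by ring
      _ = _ := by rw [hsq, one_mul, ha i hi, mul_inv_cancel₀ (pow_ne_zero _ hQ), one_mul]
  have hre : re * re = (Q ^ Se)⁻¹ := by
    calc re * re = re * ∏ i ∈ Finset.range (n + 1), s (2 * (n + 1 - 1 - i)) := by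
          rw [Finset.prod_range_reflect (fun i => s (2 * i))]
      _ = ∏ i ∈ Finset.range (n + 1), (Q ^ B (2 * i))⁻¹ := by
          rw [← Finset.prod_mul_distrib]
          refine Finset.prod_congr rfl fun i hi => ?_
          have := Finset.mem_range.1 hi
          rw [← hpair (2 * i) (by omega), show 2 * n - 2 * i = 2 * (n + 1 - 1 - i) by omega]
      _ = _ := by rw [Finset.prod_inv_distrib, Finset.prod_pow_eq_pow_sum]
  have hro : ro * ro = (Q ^ So)⁻¹ := by
    calc ro * ro = ro * ∏ i ∈ Finset.range n, s (2 * (n - 1 - i) + 1) := by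
          rw [Finset.prod_range_reflect (fun i => s (2 * i + 1))]
      _ = ∏ i ∈ Finset.range n, (Q ^ B (2 * i + 1))⁻¹ := by
          rw [← Finset.prod_mul_distrib]
          refine Finset.prod_congr rfl fun i hi => ?_
          have := Finset.mem_range.1 hi
          rw [← hpair (2 * i + 1) (by omega), show 2 * n - (2 * i + 1) = 2 * (n - 1 - i) + 1 by omega]
      _ = _ := by rw [Finset.prod_inv_distrib, Finset.prod_pow_eq_pow_sum]
  have hE : (∑ i ∈ Finset.range (2 * n + 1), (-1 : ℤ) ^ i * (B i : ℤ)) = (Se : ℤ) - (So : ℤ) := by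
    rw [sum_range_two_mul_succ, sub_eq_add_neg]
    simp [Se, So, pow_succ]
  have hre0 : re ≠ 0 := fun h => by rw [h, zero_mul] at hre; exact inv_ne_zero (pow_ne_zero _ hQ) hre.symm
  rw [hE] at hm ⊢
  have hsq : (ro / re / q ^ m) * (ro / re / q ^ m) = 1 := by
    calc (ro / re / q ^ m) * (ro / re / q ^ m) = (ro * ro) / (re * re) / (q ^ m * q ^ m) := by ring
      _ = 1 := by
        rw [hro, hre, ← zpow_add₀ hq, ← two_mul, hm, zpow_sub₀ hQ, zpow_natCast, zpow_natCast, inv_div_inv,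
          div_self (div_ne_zero (pow_ne_zero _ hQ) (pow_ne_zero _ hQ))]
  refine ⟨ro / re / q ^ m, mul_self_eq_one_iff.1 hsq, ?_⟩
  show aeval T0 Po / aeval T0 Pe = _
  rw [he, ho, ← map_zpow₀, ← map_mul, div_mul_cancel₀ _ (zpow_ne_zero m hq), map_div₀, zpow_sub₀ hx, zpow_natCast,
    zpow_natCast]
  field_simp
  rfl

end Groth.Agent.WC97
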