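import Groth.Agent.WC97.Fixed
import Groth.Agent.WC97.FrobDet
import Groth.Prelude.Def_W4c1zetahwZeta

/-! Closed fixed points of the powers of Frobenius and the numbers `N_m` of the zeta function. -/

set_option autoImplicit false
universe u v

noncomputable section

open CategoryTheory AlgebraicGeometry WeilCoh

namespace Groth.Agent.WC97

/-- `z ↦ z^(q^n)` is the identity of `E` iff `E` is finite of degree dividing `n`. -/
theorem pow_eq_self_iff {k₀ E : Type u} [Field k₀] [Finite k₀] [Field E] [Algebra k₀ E] {n : ℕ} (hn : n ≠ 0) :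
    (∀ z : E, z ^ (Nat.card k₀) ^ n = z) ↔ Module.finrank k₀ E ≠ 0 ∧ Module.finrank k₀ E ∣ n := by
  haveI := Fintype.ofFinite k₀
  have hq : 1 < (Nat.card k₀) ^ n := Nat.one_lt_pow hn (by rw [Nat.card_eq_fintype_card]; exact Fintype.one_lt_card)
  have key : Finite E → ((∀ z : E, z ^ (Nat.card k₀) ^ n = z) ↔ Module.finrank k₀ E ∣ n) := by
    intro _
    rw [← FiniteField.orderOf_frobeniusAlgHom k₀ E, orderOf_dvd_iff_pow_eq_one, DFunLike.ext_iff]
    refine forall_congr' fun z => ?_
    rw [AlgHom.coe_pow, FiniteField.coe_frobeniusAlgHom, pow_iterate, AlgHom.one_apply, Nat.card_eq_fintype_card]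
  constructor
  · intro h
    have hfinE : Finite E := by
      let P : Polynomial E := Polynomial.X ^ (Nat.card k₀) ^ n - Polynomial.X
      have hP : P ≠ 0 := FiniteField.X_pow_card_sub_X_ne_zero E hq
      refine Set.finite_univ_iff.1 ((Polynomial.finite_setOf_isRoot hP).subset fun z _ => ?_)
      show Polynomial.IsRoot P z
      rw [Polynomial.IsRoot.def, show P = Polynomial.X ^ (Nat.card k₀) ^ n - Polynomial.X from rfl, Polynomial.eval_sub,
        Polynomial.eval_pow, Polynomial.eval_X, h z, sub_self]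
    have : Module.Finite k₀ E := Module.Finite.of_finite
    exact ⟨Module.finrank_pos.ne', (key hfinE).1 h⟩
  · rintro ⟨h0, h⟩
    have : Module.Finite k₀ E := Module.finite_of_finrank_pos (Nat.pos_of_ne_zero h0)
    exact (key (Module.finite_of_finite k₀)).2 h

variable {k₀ : Type u} [Field k₀] {k : Type u} [Field k] [Algebra k₀ k]
  {X : Scheme.{u}} (f : X ⟶ Spec (.of k₀)) {Xb : Var k} {π : Xb.obj.left ⟶ X}

/-- the embeddings of `κ(y)` into `k` over `k₀` -/
def Emb (y : X) : Type u := {τ : X.residueField y →+* k // τ.comp (kStr f y) = algebraMap k₀ k}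

theorem card_emb [IsAlgClosed k] [Finite k₀] (y : X)
    (h : letI := (kStr f y).toAlgebra; Module.Finite k₀ (X.residueField y)) :
    Finite (Emb (k := k) f y) ∧
    Nat.card (Emb (k := k) f y) = (letI := (kStr f y).toAlgebra; Module.finrank k₀ (X.residueField y)) := by
  letI := (kStr f y).toAlgebra
  haveI : Module.Finite k₀ (X.residueField y) := h
  let eq : Emb (k := k) f y ≃ (X.residueField y →ₐ[k₀] k) :=
    { toFun := fun τ => { τ.1 with commutes' := fun r => RingHom.congr_fun τ.2 r }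
      invFun := fun a => ⟨a.toRingHom, RingHom.ext a.commutes⟩
      left_inv := fun _ => rfl
      right_inv := fun _ => rfl }
  refine ⟨Finite.of_equiv _ eq.symm, ?_⟩
  rw [Nat.card_congr eq, Nat.card_eq_fintype_card, AlgHom.card]

theorem kStr_id_bijective (o : ↥(Spec (CommRingCat.of k₀))) : Function.Bijective (kStr (𝟙 (Spec (.of k₀))) o) := by
  refine ⟨(kStr (𝟙 (Spec (.of k₀))) o).injective, fun z => ?_⟩
  have hT := isAffineOpen_top (Spec (CommRingCat.of k₀))
  have hbij : Function.Bijective (kSec (𝟙 (Spec (.of k₀))) hT) := by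
    have : IsIso hT.fromSpec := by rw [IsAffineOpen.fromSpec_top]; infer_instance
    have h1 : IsIso (hT.fromSpec ≫ 𝟙 (Spec (.of k₀))) := inferInstance
    have : IsIso (Spec.preimage (hT.fromSpec ≫ 𝟙 (Spec (.of k₀)))) := by
      have h2 : IsIso (Scheme.Spec.map (Spec.preimage (hT.fromSpec ≫ 𝟙 (Spec (.of k₀)))).op) := by
        show IsIso (Spec.map (Spec.preimage (hT.fromSpec ≫ 𝟙 (Spec (.of k₀)))))
        rw [Spec.map_preimage]; exact h1
      have h3 := @isIso_of_fully_faithful _ _ _ _ Scheme.Spec _ _ _ _ (Spec.preimage (hT.fromSpec ≫ 𝟙 (Spec (.of k₀)))).op h2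
      exact (isIso_op_iff _).1 h3
    exact (ConcreteCategory.isIso_iff_bijective _).1 this
  obtain ⟨a, b, hb, rfl⟩ := evaluation_div hT (show o ∈ (⊤ : (Spec (CommRingCat.of k₀)).Opens) from trivial) z
  obtain ⟨c, rfl⟩ := hbij.2 a
  obtain ⟨d, rfl⟩ := hbij.2 b
  exact ⟨c / d, by rw [map_div₀, kStr_eq (𝟙 _) hT (show o ∈ (⊤ : (Spec (CommRingCat.of k₀)).Opens) from trivial)]; rfl⟩

theorem residueDegree_eq_finrank (y : X) :
    EGA4loc.residueDegree f y = (letI := (kStr f y).toAlgebra; Module.finrank k₀ (X.residueField y)) := by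
  letI a1 : Algebra k₀ (X.residueField y) := (kStr f y).toAlgebra
  letI a2 : Algebra ((Spec (CommRingCat.of k₀)).residueField (f y)) (X.residueField y) := (f.residueFieldMap y).hom.toAlgebra
  refine (Algebra.finrank_eq_of_equiv_equiv (RingEquiv.ofBijective _ (kStr_id_bijective (f y))) (RingEquiv.refl _) ?_).symm
  refine RingHom.ext fun c => ?_
  exact (RingHom.congr_fun (kStr_comp f f (𝟙 _) (Category.comp_id _) y) c).symm

theorem isClosed_of_finite [LocallyOfFiniteType f] (y : X)
    (h : letI := (kStr f y).toAlgebra; Module.Finite k₀ (X.residueField y)) : IsClosed ({y} : Set X) := by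
  refine isClosed_of_pdim_eq_zero f ?_
  rw [pdim_eq f]
  letI := (kStr f y).toAlgebra
  haveI : Module.Finite k₀ (X.residueField y) := h
  show Cardinal.toNat (Algebra.trdeg k₀ (X.residueField y)) = 0
  rw [trdeg_eq_zero]
  simp

theorem sigma_ext_of_eval {y₁ y₂ : X} (he : y₁ = y₂) (τ₁ : Emb (k := k) f y₁) (τ₂ : Emb (k := k) f y₂)
    {U : X.Opens} (hU : IsAffineOpen U) (h₁ : y₁ ∈ U) (h₂ : y₂ ∈ U)
    (h : ∀ a, τ₁.1 ((X.evaluation U y₁ h₁).hom a) = τ₂.1 ((X.evaluation U y₂ h₂).hom a)) :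
    (⟨y₁, τ₁⟩ : Σ y, Emb (k := k) f y) = ⟨y₂, τ₂⟩ := by
  subst he
  congr 1
  refine Subtype.ext (RingHom.ext fun z => ?_)
  obtain ⟨a, b, -, rfl⟩ := evaluation_div hU h₁ z
  rw [map_div₀, map_div₀, h, h]

variable [IsAlgClosed k] (hπ : IsPullback π Xb.obj.hom f (Spec.map (CommRingCat.ofHom (algebraMap k₀ k))))

include hπ

theorem resHom_commutes (x : Xb.obj.left) (hx : IsClosed ({x} : Set Xb.obj.left)) :
    ((residueFieldIsoBase Xb.obj.hom x hx).hom.hom.comp (π.residueFieldMap x).hom).comp (kStr f (π x)) =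
      algebraMap k₀ k := by
  have h : CommRingCat.ofHom (kStr f (π x)) ≫ π.residueFieldMap x ≫ (residueFieldIsoBase Xb.obj.hom x hx).hom =
      CommRingCat.ofHom (algebraMap k₀ k) := by
    apply Spec.map_injective
    rw [Spec.map_comp, Spec.map_comp, kStr_spec, Category.assoc,
      Scheme.Hom.SpecMap_residueFieldMap_fromSpecResidueField_assoc, hπ.w, ← Category.assoc, ← Category.assoc]
    show (pointOfClosedPoint Xb.obj.hom x hx ≫ Xb.obj.hom) ≫ _ = _
    rw [pointOfClosedPoint_comp, Category.id_comp]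
  exact congrArg CommRingCat.Hom.hom h

/-- a closed point of `X̄` as a point of `X` with an embedding of its residue field -/
def toSigma (hπ : IsPullback π Xb.obj.hom f (Spec.map (CommRingCat.ofHom (algebraMap k₀ k))))
    (x : {x : Xb.obj.left // IsClosed ({x} : Set Xb.obj.left)}) : Σ y, Emb (k := k) f y :=
  ⟨π x.1, ⟨(residueFieldIsoBase Xb.obj.hom x.1 x.2).hom.hom.comp (π.residueFieldMap x.1).hom,
    resHom_commutes f hπ x.1 x.2⟩⟩

/-- the embedding attached to a closed point -/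
def tau (hπ : IsPullback π Xb.obj.hom f (Spec.map (CommRingCat.ofHom (algebraMap k₀ k))))
    (x : {x : Xb.obj.left // IsClosed ({x} : Set Xb.obj.left)}) : X.residueField (π x.1) →+* k :=
  (toSigma f hπ x).2.1

omit hπ in
/-- the `k`-point of `X` given by an embedding -/
def ptMap (z : Σ y, Emb (k := k) f y) : Spec (.of k) ⟶ X :=
  Spec.map (CommRingCat.ofHom z.2.1) ≫ X.fromSpecResidueField z.1

omit hπ in
theorem ptMap_injective : Function.Injective (ptMap (k := k) f) := by
  intro z z' h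
  have h2 := (Scheme.SpecToEquivOfField k X).symm.injective
    (a₁ := ⟨z.1, CommRingCat.ofHom z.2.1⟩) (a₂ := ⟨z'.1, CommRingCat.ofHom z'.2.1⟩) h
  obtain ⟨y, τ⟩ := z
  obtain ⟨y', τ'⟩ := z'
  simp only [Sigma.mk.injEq] at h2
  obtain ⟨rfl, h2⟩ := h2
  congr 1
  exact Subtype.ext (congrArg CommRingCat.Hom.hom (eq_of_heq h2))

theorem ptMap_toSigma (x : {x : Xb.obj.left // IsClosed ({x} : Set Xb.obj.left)}) :
    ptMap f (toSigma f hπ x) = pointOfClosedPoint Xb.obj.hom x.1 x.2 ≫ π := by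
  show Spec.map (π.residueFieldMap x.1 ≫ (residueFieldIsoBase Xb.obj.hom x.1 x.2).hom) ≫ X.fromSpecResidueField _ = _
  rw [Spec.map_comp, Category.assoc, Scheme.Hom.SpecMap_residueFieldMap_fromSpecResidueField, pointOfClosedPoint,
    Category.assoc]

theorem toSigma_bijective : Function.Bijective (toSigma f hπ) := by
  constructor
  · intro x x' h
    have h1 := congrArg (ptMap f) h
    rw [ptMap_toSigma, ptMap_toSigma] at h1
    have h2 : pointOfClosedPoint Xb.obj.hom x.1 x.2 = pointOfClosedPoint Xb.obj.hom x'.1 x'.2 :=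
      hπ.hom_ext h1 (by rw [pointOfClosedPoint_comp, pointOfClosedPoint_comp])
    have h3 := congrArg (fun g : Spec (.of k) ⟶ Xb.obj.left => g (IsLocalRing.closedPoint k)) h2
    rw [pointOfClosedPoint_apply, pointOfClosedPoint_apply] at h3
    exact Subtype.ext h3
  · intro z
    have hw : ptMap f z ≫ f = 𝟙 (Spec (.of k)) ≫ Spec.map (CommRingCat.ofHom (algebraMap k₀ k)) := by
      rw [Category.id_comp, ptMap, Category.assoc, ← kStr_spec, ← Spec.map_comp]
      congr 1
      exact CommRingCat.hom_ext z.2.2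
    let s := hπ.lift (ptMap f z) (𝟙 _) hw
    have hs : s ≫ Xb.obj.hom = 𝟙 _ := hπ.lift_snd _ _ hw
    let x := pointEquivClosedPoint Xb.obj.hom ⟨s, hs⟩
    refine ⟨⟨x.1, x.2⟩, ptMap_injective f ?_⟩
    rw [ptMap_toSigma]
    have h1 : pointOfClosedPoint Xb.obj.hom x.1 x.2 = s :=
      congrArg Subtype.val ((pointEquivClosedPoint Xb.obj.hom).symm_apply_apply ⟨s, hs⟩)
    rw [h1]
    exact hπ.lift_fst _ _ hw

theorem kStr_toSigma (x : {x : Xb.obj.left // IsClosed ({x} : Set Xb.obj.left)}) (z : X.residueField (π x.1)) :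
    kStr Xb.obj.hom x.1 ((toSigma f hπ x).2.1 z) = (π.residueFieldMap x.1).hom z := by
  have h : (residueFieldIsoBase Xb.obj.hom x.1 x.2).inv = CommRingCat.ofHom (kStr Xb.obj.hom x.1) := by
    apply Spec.map_injective
    rw [kStr_spec, SpecMap_residueFieldIsoBase_inv]
  have h2 := congrArg (fun g : Xb.obj.left.residueField x.1 ⟶ Xb.obj.left.residueField x.1 => g.hom ((π.residueFieldMap x.1).hom z))
    (residueFieldIsoBase Xb.obj.hom x.1 x.2).hom_inv_id
  rw [h] at h2
  exact h2

variable [Finite k₀] {p e : ℕ} [hp : Fact p.Prime] [CharP k p] {G : Xb ⟶ Xb} (hG : IsFrob p e π G)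

include hG

theorem fixed_iff (x : {x : Xb.obj.left // IsClosed ({x} : Set Xb.obj.left)}) :
    sm G x.1 = x.1 ↔ ∀ z : X.residueField (π x.1), z ^ p ^ e = z := by
  obtain ⟨U, hU, hπx, -⟩ := exists_isAffineOpen_mem_and_subset (U := ⊤) (show π x.1 ∈ (⊤ : X.Opens) from trivial)
  have hW := isAffineOpen_preimage hπ hU
  have hx : x.1 ∈ π ⁻¹ᵁ U := hπx
  let τ : X.residueField (π x.1) →+* k := tau f hπ x
  have hev : ∀ (y : {y : Xb.obj.left // IsClosed ({y} : Set Xb.obj.left)}) (hy : π y.1 ∈ U) (a : Γ(X, U)),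
      kStr Xb.obj.hom y.1 (tau f hπ y ((X.evaluation U (π y.1) hy).hom a)) =
        (Xb.obj.left.evaluation (π ⁻¹ᵁ U) y.1 hy).hom (π.app U a) := fun y hy a => by
    exact (kStr_toSigma f hπ y _).trans (Scheme.evaluation_naturality_apply π y.1 hy a)
  constructor
  · intro hfix z
    have key : ∀ a, (X.evaluation U (π x.1) hπx).hom a ^ p ^ e = (X.evaluation U (π x.1) hπx).hom a := by
      intro a
      apply τ.injective
      apply (kStr Xb.obj.hom x.1).injective
      rw [map_pow τ, map_pow (kStr Xb.obj.hom x.1), hev x hπx a, ← map_pow]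
      have h := evaluation_phi_fixed hπ hG hU hx hfix (τ ((X.evaluation U (π x.1) hπx).hom a)) (π.app U a) (hev x hπx a).symm
      rw [show phi hG U (π.app U a) = (π.app U a) ^ p ^ e from hG.app U _ a] at h
      exact h.trans (hev x hπx a)
    obtain ⟨a, b, -, rfl⟩ := evaluation_div hU hπx z
    rw [div_pow, key, key]
  · intro hz
    have hGcl : IsClosed ({sm G x.1} : Set Xb.obj.left) :=
      isClosed_of_pdim_eq_zero Xb.obj.hom (by rw [pdim_frob hπ hG]; exact pdim_of_isClosed Xb.obj.hom x.2)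
    have hGx : sm G x.1 ∈ π ⁻¹ᵁ U := by show π (sm G x.1) ∈ U; rw [hG.map_pi]; exact hπx
    refine congrArg Subtype.val ((toSigma_bijective f hπ).1 (a₁ := ⟨sm G x.1, hGcl⟩) (a₂ := x) ?_)
    refine sigma_ext_of_eval f (hG.map_pi x.1) _ _ hU hGx hπx fun a => ?_
    show tau f hπ ⟨sm G x.1, hGcl⟩ ((X.evaluation U (π (sm G x.1)) hGx).hom a) = tau f hπ x ((X.evaluation U (π x.1) hπx).hom a)
    apply (kStr Xb.obj.hom x.1).injective
    have h1 := congrArg ((sm G).residueFieldMap x.1).hom (hev ⟨sm G x.1, hGcl⟩ hGx a)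
    rw [← RingHom.comp_apply, ← kStr_comp (sm G) Xb.obj.hom Xb.obj.hom (sm_hom G)] at h1
    refine h1.trans ?_
    refine (residueFieldMap_evaluation x.1 hx hGx (hG.preimage_eq U).ge (π.app U a)).trans ?_
    rw [hG.app U _ a]
    refine Eq.trans ?_ (hev x hπx a).symm
    have : ((Xb.obj.left.evaluation (π ⁻¹ᵁ U) x.1 hx).hom (π.app U a)) ^ p ^ e =
        (Xb.obj.left.evaluation (π ⁻¹ᵁ U) x.1 hx).hom (π.app U a) := by
      have h4 := hev x hπx a
      rw [← h4, ← map_pow (kStr Xb.obj.hom x.1), ← map_pow (tau f hπ x)]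
      exact congrArg _ (congrArg _ (hz _))
    exact (map_pow _ _ _).trans this

theorem card_fixed_eq_nPts [LocallyOfFiniteType f] {n : ℕ} (hn : n ≠ 0) (hq : (Nat.card k₀) ^ n = p ^ e)
    (hfin : {x : Xb.obj.left | IsClosed ({x} : Set Xb.obj.left) ∧ sm G x = x}.Finite) :
    Nat.card {x : Xb.obj.left // IsClosed ({x} : Set Xb.obj.left) ∧ sm G x = x} = Zeta.nPts f n := by
  classical
  let deg : X → ℕ := fun y => EGA4loc.residueDegree f y
  have hcrit : ∀ y : X, (∀ z : X.residueField y, z ^ p ^ e = z) ↔ deg y ≠ 0 ∧ deg y ∣ n := by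
    intro y
    letI := (kStr f y).toAlgebra
    rw [← hq]
    show _ ↔ EGA4loc.residueDegree f y ≠ 0 ∧ EGA4loc.residueDegree f y ∣ n
    rw [residueDegree_eq_finrank f y]
    exact pow_eq_self_iff hn
  let S := {y : X // deg y ≠ 0 ∧ deg y ∣ n}
  let eqv : {x : Xb.obj.left // IsClosed ({x} : Set Xb.obj.left) ∧ sm G x = x} ≃ Σ y : S, Emb (k := k) f y.1 :=
    ((Equiv.subtypeSubtypeEquivSubtypeInter _ _).symm.trans
      ((Equiv.ofBijective _ (toSigma_bijective f hπ)).subtypeEquiv fun x => (fixed_iff f hπ hG x).trans (hcrit (π x.1)))).trans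
      (Equiv.subtypeSigmaEquiv (fun y => Emb (k := k) f y) (fun y => deg y ≠ 0 ∧ deg y ∣ n))
  have hEmb : ∀ y : S, Finite (Emb (k := k) f y.1) ∧ Nat.card (Emb (k := k) f y.1) = deg y.1 := by
    intro y
    letI := (kStr f y.1).toAlgebra
    have h1 := y.2.1
    have hy := residueDegree_eq_finrank f y.1
    have : Module.Finite k₀ (X.residueField y.1) := Module.finite_of_finrank_pos (Nat.pos_of_ne_zero (by
      rw [← hy]; exact h1))
    exact ⟨(card_emb f y.1 this).1, by rw [(card_emb f y.1 this).2]; exact hy.symm⟩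
  have hne : ∀ y : S, Nonempty (Emb (k := k) f y.1) := fun y => by
    have := (hEmb y).2
    exact (Nat.card_ne_zero.1 (by rw [this]; exact y.2.1)).1
  haveI : Finite {x : Xb.obj.left // IsClosed ({x} : Set Xb.obj.left) ∧ sm G x = x} := hfin.to_subtype
  haveI : Finite (Σ y : S, Emb (k := k) f y.1) := Finite.of_equiv _ eqv
  haveI : Finite S := Finite.of_surjective (fun z : Σ y : S, Emb (k := k) f y.1 => z.1)
    fun y => ⟨⟨y, (hne y).some⟩, rfl⟩
  haveI := Fintype.ofFinite S
  haveI : ∀ y : S, Finite (Emb (k := k) f y.1) := fun y => (hEmb y).1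
  rw [Nat.card_congr eqv, Nat.card_sigma, Finset.sum_congr rfl fun y _ => (hEmb y).2,
    ← Finset.sum_fiberwise_of_maps_to (s := Finset.univ) (t := n.divisors) (g := fun y : S => deg y.1)
      (fun y _ => Nat.mem_divisors.2 ⟨y.2.2, hn⟩) (f := fun y : S => deg y.1)]
  refine Finset.sum_congr rfl fun d hd => ?_
  rw [Finset.sum_congr rfl fun y hy => (Finset.mem_filter.1 hy).2, Finset.sum_const, smul_eq_mul, mul_comm]
  congr 1
  rw [Zeta.degCount, ← Fintype.card_subtype, ← Nat.card_eq_fintype_card]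
  have hd0 : d ≠ 0 := (Nat.pos_of_mem_divisors hd).ne'
  refine Nat.card_congr
    { toFun := fun y => ⟨y.1.1, ⟨?_, y.2⟩⟩
      invFun := fun y => ⟨⟨y.1, by rw [show deg y.1 = d from y.2.2]; exact hd0, by rw [show deg y.1 = d from y.2.2]; exact (Nat.mem_divisors.1 hd).1⟩, y.2.2⟩
      left_inv := fun _ => rfl
      right_inv := fun _ => rfl }
  letI := (kStr f y.1.1).toAlgebra
  exact isClosed_of_finite f y.1.1 (Module.finite_of_finrank_pos (Nat.pos_of_ne_zero (by
    rw [← residueDegree_eq_finrank f y.1.1]; exact y.1.2.1)))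

end Groth.Agent.WC97
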