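import Groth.Prelude.Def_WeilCoh

/-! Formal consequences of the axioms of a Weil cohomology theory: Poincaré duality and push-forward. -/

set_option autoImplicit false
universe u v w

noncomputable section

open CategoryTheory AlgebraicGeometry WeilCoh

namespace Groth.Agent.WC97

variable {k : Type u} [Field k] {P : ObjectProperty (Over (Spec (CommRingCat.of k)))}
variable {K : Type v} [Field K] (T : TheoryOn.{u, v, w} k P K)
variable {X Y Z : P.FullSubcategory}

/-- twice the dimension, as an integer -/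
abbrev D (X : P.FullSubcategory) : ℤ := 2 * (WeilCoh.dim X.obj.left : ℤ)

theorem iSup_gr (X : P.FullSubcategory) : ⨆ i, T.gr X i = ⊤ :=
  (T.decomp X).submodule_iSup_eq_top

theorem ext_gr {M : Type*} [AddCommGroup M] [Module K M] {f g : T.H X →ₗ[K] M}
    (h : ∀ i, ∀ a ∈ T.gr X i, f a = g a) : f = g := by
  refine LinearMap.ext fun x => ?_
  have hx : x ∈ LinearMap.eqLocus f g := by
    have : ⨆ i, T.gr X i ≤ LinearMap.eqLocus f g := iSup_le fun i a ha => h i a ha
    exact this (by rw [iSup_gr T X]; trivial)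
  exact hx

theorem tr_mul_eq_zero {i j : ℤ} {a b : T.H X} (ha : a ∈ T.gr X i) (hb : b ∈ T.gr X j)
    (h : i + j ≠ D X) : T.tr X (a * b) = 0 :=
  T.tr_vanish X (i + j) _ (SetLike.mul_mem_graded ha hb) h

theorem eq_of_tr_left {i : ℤ} {x y : T.H X} (hx : x ∈ T.gr X i) (hy : y ∈ T.gr X i)
    (h : ∀ b ∈ T.gr X (D X - i), T.tr X (x * b) = T.tr X (y * b)) : x = y := by
  have hp := T.duality X i (D X - i) (add_sub_cancel i _)
  have : (⟨x, hx⟩ : T.gr X i) = ⟨y, hy⟩ := hp.bijective_left.injective (LinearMap.ext fun b => h b.1 b.2)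
  exact congrArg Subtype.val this

/-- equality of classes of one degree is detected by the trace pairing -/
theorem eq_of_tr {i : ℤ} {x y : T.H X} (hx : x ∈ T.gr X i) (hy : y ∈ T.gr X i)
    (h : ∀ b : T.H X, T.tr X (x * b) = T.tr X (y * b)) : x = y :=
  eq_of_tr_left T hx hy fun b _ => h b

theorem exists_tr_eq (X : P.FullSubcategory) (c : K) : ∃ a ∈ T.gr X (D X), T.tr X a = c := by
  obtain ⟨a, ha⟩ := (T.tr_bijective X).2 c
  exact ⟨a.1, a.2, ha⟩

theorem eq_of_tr_top {a b : T.H X} (ha : a ∈ T.gr X (D X)) (hb : b ∈ T.gr X (D X))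
    (h : T.tr X a = T.tr X b) : a = b :=
  congrArg Subtype.val ((T.tr_bijective X).1 (a₁ := ⟨a, ha⟩) (a₂ := ⟨b, hb⟩) h)

theorem mem_of_eq {i j : ℤ} (h : i = j) {a : T.H X} (ha : a ∈ T.gr X i) : a ∈ T.gr X j := h ▸ ha

theorem push_mem (f : X ⟶ Y) (i : ℤ) (a : T.gr X i) :
    (T.push f i a : T.H Y) ∈ T.gr Y (i + D Y - D X) := (T.push f i a).2

theorem tr_push_mul_hom (f : X ⟶ Y) (i : ℤ) (a : T.gr X i) (b : T.gr Y (D X - i)) :
    T.tr Y ((T.push f i a : T.H Y) * b) = T.tr X ((a : T.H X) * T.pull f b) := by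
  have : Fact True := ⟨trivial⟩
  haveI := T.duality Y (i + D Y - D X) (D X - i) (by unfold D at *; omega)
  have h := LinearMap.apply_symm_toPerfPair_self
    (pairing K (T.gr Y (i + D Y - D X)) (T.gr Y (D X - i)) (T.tr Y)) (T.pushFunctional f i a)
  exact LinearMap.congr_fun h b

/-- the defining property of push-forward, for all classes `b` -/
theorem tr_push_mul (f : X ⟶ Y) (i : ℤ) (a : T.gr X i) (b : T.H Y) :
    T.tr Y ((T.push f i a : T.H Y) * b) = T.tr X ((a : T.H X) * T.pull f b) := by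
  refine LinearMap.congr_fun (ext_gr T (f := (T.tr Y).comp (LinearMap.mulLeft K (T.push f i a : T.H Y)))
    (g := ((T.tr X).comp (LinearMap.mulLeft K (a : T.H X))).comp (T.pull f).toLinearMap) fun j b hb => ?_) b
  show T.tr Y ((T.push f i a : T.H Y) * b) = T.tr X ((a : T.H X) * T.pull f b)
  by_cases hj : j = D X - i
  · subst hj; exact tr_push_mul_hom T f i a ⟨b, hb⟩
  · rw [tr_mul_eq_zero T (push_mem T f i a) hb (by unfold D at *; omega),
      tr_mul_eq_zero T a.2 (T.pull_mem f j b hb) (by unfold D at *; omega)]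

theorem push_comp (f : X ⟶ Y) (g : Y ⟶ Z) (i : ℤ) (a : T.gr X i) :
    (T.push (f ≫ g) i a : T.H Z) = (T.push g (i + D Y - D X) (T.push f i a) : T.H Z) := by
  refine eq_of_tr T (push_mem T (f ≫ g) i a) ?_ fun b => ?_
  · exact mem_of_eq T (by unfold D; ring) (push_mem T g (i + D Y - D X) (T.push f i a))
  · rw [tr_push_mul, tr_push_mul, tr_push_mul, T.pull_comp]; rfl

theorem push_mul_pull (f : X ⟶ Y) (i j : ℤ) (a : T.gr X i) (c : T.gr Y j) :
    (T.push f (i + j) ⟨(a : T.H X) * T.pull f c, SetLike.mul_mem_graded a.2 (T.pull_mem f j c c.2)⟩ : T.H Y) =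
      (T.push f i a : T.H Y) * c := by
  refine eq_of_tr T (push_mem T f (i + j) _) ?_ fun b => ?_
  · exact mem_of_eq T (by unfold D; ring) (SetLike.mul_mem_graded (push_mem T f i a) c.2)
  · rw [tr_push_mul, mul_assoc, mul_assoc, tr_push_mul, map_mul (T.pull f)]

theorem sm_comp (f : X ⟶ Y) (g : Y ⟶ Z) : sm (f ≫ g) = sm f ≫ sm g := rfl

theorem sm_id (X : P.FullSubcategory) : sm (𝟙 X) = 𝟙 _ := rfl

theorem sm_hom (f : X ⟶ Y) : sm f ≫ Y.obj.hom = X.obj.hom := Over.w f.hom

end Groth.Agent.WC97
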