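import Groth.Agent.WC97.Dim
import Groth.Agent.WC97.Reduced
import Groth.Agent.WC97.Alg
import Mathlib.AlgebraicGeometry.FunctionField
import Mathlib.RingTheory.Length

/-! Basic geometry of the objects of `WeilCoh.Var k` and the first consequences for classes. -/

set_option autoImplicit false
universe u v

noncomputable section

open CategoryTheory AlgebraicGeometry WeilCoh TopologicalSpace

namespace Groth.Agent.WC97

variable {k : Type u} [Field k]

instance (X : Var k) : IrreducibleSpace ↥X.obj.left := X.property.2.2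
instance (X : Var k) : Smooth X.obj.hom := X.property.1
instance (X : Var k) : AlgebraicGeometry.IsReduced X.obj.left := isReduced_of_smooth X.obj.hom
instance (X : Var k) : AlgebraicGeometry.IsIntegral X.obj.left :=
  isIntegral_of_irreducibleSpace_of_isReduced _

theorem codim_cast (X : Var k) (ξ : X.obj.left) :
    (codim X.obj.left ξ : ℤ) = (dim X.obj.left : ℤ) - pdim X.obj.left ξ := by
  have := pdim_le_dim X.obj.hom ξ
  unfold WeilCoh.codim
  omega

theorem pdim_gp (X : Var k) : pdim X.obj.left (genericPoint X.obj.left) = dim X.obj.left :=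
  pdim_genericPoint X.obj.hom

theorem codim_gp (X : Var k) : codim X.obj.left (genericPoint X.obj.left) = 0 := by
  rw [WeilCoh.codim, pdim_gp, Nat.sub_self]

theorem pdim_image {X Y : Var k} (f : X ⟶ Y) (ξ : X.obj.left) (h : (sm f).residueDegree ξ ≠ 0) :
    pdim Y.obj.left (sm f ξ) = pdim X.obj.left ξ :=
  pdim_eq_of_residueDegree_ne_zero X.obj.hom (sm_hom f) ξ h

theorem residueDegree_of_retraction {X Y : Scheme.{u}} (j : X ⟶ Y) (p : Y ⟶ X) (h : j ≫ p = 𝟙 X)
    (x : X) : j.residueDegree x = 1 := by
  letI : Algebra (Y.residueField (j x)) (X.residueField x) := (j.residueFieldMap x).hom.toAlgebra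
  have hsurj : Function.Surjective (j.residueFieldMap x).hom := by
    intro z
    have h1 := Scheme.residueFieldMap_comp j p x
    have key : ∀ g : X ⟶ X, g = 𝟙 X → Function.Bijective (g.residueFieldMap x).hom := by
      rintro g rfl
      rw [Scheme.residueFieldMap_id]
      exact Function.bijective_id
    have h2 := key _ h
    obtain ⟨w, hw⟩ := h2.2 z
    rw [h1] at hw
    exact ⟨_, hw⟩
  exact Module.finrank_eq_of_rank_eq (n := 1) (by
    rw [← LinearEquiv.rank_eq (LinearEquiv.ofBijective (Algebra.linearMap (Y.residueField (j x)) (X.residueField x))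
      ⟨(j.residueFieldMap x).hom.injective, hsurj⟩), Module.rank_self, Nat.cast_one])

theorem residueDegree_section {X Y : Var k} (j : X ⟶ Y) (p : Y ⟶ X) (h : j ≫ p = 𝟙 X)
    (x : X.obj.left) : (sm j).residueDegree x = 1 :=
  residueDegree_of_retraction (sm j) (sm p) (by rw [← sm_comp, h, sm_id]) x

theorem pdim_section {X Y : Var k} (j : X ⟶ Y) (p : Y ⟶ X) (h : j ≫ p = 𝟙 X) (x : X.obj.left) :
    pdim Y.obj.left (sm j x) = pdim X.obj.left x :=
  pdim_image j x (by rw [residueDegree_section j p h x]; exact one_ne_zero)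

/-! ### the point -/

theorem exists_closedPoint (X : Var k) : ∃ x : X.obj.left, IsClosed ({x} : Set X.obj.left) := by
  have : JacobsonSpace ↥X.obj.left := LocallyOfFiniteType.jacobsonSpace X.obj.hom
  obtain ⟨x, -, hx⟩ := nonempty_inter_closedPoints (Z := (Set.univ : Set X.obj.left))
    Set.univ_nonempty isClosed_univ.isLocallyClosed
  exact ⟨x, hx⟩

variable [IsAlgClosed k]

theorem isVar_point (X : Var k) : IsVar k (Over.mk (𝟙 (Spec (.of k)))) := by
  refine ⟨inferInstanceAs (Smooth (𝟙 (Spec (.of k)))), ?_, inferInstanceAs (IrreducibleSpace ↥(Spec (.of k)))⟩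
  obtain ⟨x, hx⟩ := exists_closedPoint X
  obtain ⟨n, i, hi, hi'⟩ := X.property.2.1
  have : IsClosedImmersion (pointOfClosedPoint X.obj.hom x hx) :=
    isClosedImmersion_of_comp_eq_id X.obj.hom _ (pointOfClosedPoint_comp _ x hx)
  exact ⟨n, pointOfClosedPoint X.obj.hom x hx ≫ i, inferInstance,
    by rw [Category.assoc, hi']; exact pointOfClosedPoint_comp _ x hx⟩

/-- the point, as an object of `Var k` (it needs some object to see that it is projective) -/
def pt (X : Var k) : Var k := ⟨Over.mk (𝟙 (Spec (.of k))), isVar_point X⟩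

def toPt (X : Var k) : X ⟶ pt X := ObjectProperty.homMk (Over.homMk X.obj.hom (Category.comp_id _))

def ptSection (X : Var k) (x : X.obj.left) (hx : IsClosed ({x} : Set X.obj.left)) : pt X ⟶ X :=
  ObjectProperty.homMk (Over.homMk (pointOfClosedPoint X.obj.hom x hx) (pointOfClosedPoint_comp _ x hx))

theorem ptSection_toPt (X : Var k) (x : X.obj.left) (hx : IsClosed ({x} : Set X.obj.left)) :
    ptSection X x hx ≫ toPt X = 𝟙 (pt X) := by
  apply ObjectProperty.hom_ext
  apply Over.OverMorphism.ext
  exact pointOfClosedPoint_comp _ x hx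

instance (X : Var k) : Subsingleton ↥(pt X).obj.left :=
  inferInstanceAs (Subsingleton ↥(Spec (.of k)))

theorem dim_pt (X : Var k) : dim (pt X).obj.left = 0 := by
  rw [← pdim_gp]
  exact pdim_of_isClosed (pt X).obj.hom (by
    rw [show ({genericPoint (pt X).obj.left} : Set (pt X).obj.left) = Set.univ from
      Set.eq_univ_of_forall fun z => Subsingleton.elim _ _]
    exact isClosed_univ)

theorem pdim_pt (X : Var k) (o : (pt X).obj.left) : pdim (pt X).obj.left o = 0 := by
  rw [Subsingleton.elim o (genericPoint (pt X).obj.left), pdim_gp, dim_pt]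

variable {K : Type v} [Field K] [CharZero K] (T : Theory k K)

/-- the push-forward axiom, without the degree condition -/
theorem tr_cl_mul_pull {X Y : Var k} (f : X ⟶ Y) (ξ : X.obj.left) (a : T.H Y) :
    T.tr X (T.cl X ξ * T.pull f a) = ((sm f).residueDegree ξ : K) * T.tr Y (T.cl Y (sm f ξ) * a) := by
  refine LinearMap.congr_fun (ext_gr T (f := ((T.tr X).comp (LinearMap.mulLeft K (T.cl X ξ))).comp (T.pull f).toLinearMap)
    (g := ((sm f).residueDegree ξ : K) • (T.tr Y).comp (LinearMap.mulLeft K (T.cl Y (sm f ξ)))) fun j b hb => ?_) a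
  show T.tr X (T.cl X ξ * T.pull f b) = ((sm f).residueDegree ξ : K) * T.tr Y (T.cl Y (sm f ξ) * b)
  by_cases hj : j = 2 * (pdim X.obj.left ξ : ℤ)
  · subst hj; exact T.cl_push f ξ b hb
  rw [tr_mul_eq_zero T (T.cl_mem X ξ) (T.pull_mem f j b hb) (by have := codim_cast X ξ; unfold D; omega)]
  by_cases hd : (sm f).residueDegree ξ = 0
  · simp [hd]
  rw [tr_mul_eq_zero T (T.cl_mem Y (sm f ξ)) hb
    (by have := codim_cast Y (sm f ξ); have := pdim_image f ξ hd; unfold D; omega), mul_zero]

theorem tr_cl_of_isClosed (X : Var k) (x : X.obj.left) (hx : IsClosed ({x} : Set X.obj.left)) :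
    T.tr X (T.cl X x) = 1 := by
  let o : (pt X).obj.left := genericPoint (pt X).obj.left
  have h := tr_cl_mul_pull T (ptSection X x hx) o 1
  obtain ⟨hcl, htr⟩ := T.point (pt X) (dim_pt X)
  rw [map_one, mul_one, mul_one, hcl, htr, residueDegree_section _ _ (ptSection_toPt X x hx),
    Nat.cast_one, one_mul, show sm (ptSection X x hx) o = x from pointOfClosedPoint_apply _ x hx _] at h
  exact h.symm

theorem preimMult_generic {X Y : Var k} (f : X ⟶ Y) (ξ : Y.obj.left)
    (h : sm f (genericPoint X.obj.left) ∈ closure ({ξ} : Set Y.obj.left)) :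
    preimMult (sm f) ξ (genericPoint X.obj.left) h = 1 := by
  have hle : Ideal.map ((sm f).stalkMap (genericPoint X.obj.left)).hom
      (RingHom.ker (Cyc.specMap (sm f (genericPoint X.obj.left)) ξ (specializes_iff_mem_closure.mpr h))) = ⊥ := by
    refine le_bot_iff.1 (le_trans (Ideal.map_mono (IsLocalRing.le_maximalIdeal
      (RingHom.ker_ne_top _))) ((IsLocalRing.map_maximalIdeal_le _).trans ?_))
    exact le_of_eq (IsLocalRing.maximalIdeal_eq_bot (R := X.obj.left.functionField))
  rw [preimMult, hle, LinearEquiv.length_eq (Submodule.quotEquivOfEqBot _ rfl)]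
  show (Module.length X.obj.left.functionField X.obj.left.functionField).toNat = 1
  rw [Module.length_eq_one_iff.2 inferInstance]
  rfl

theorem cl_genericPoint (X : Var k) : T.cl X (genericPoint X.obj.left) = 1 := by
  let f := toPt X
  let o : (pt X).obj.left := genericPoint (pt X).obj.left
  have hcl := (T.point (pt X) (dim_pt X)).1 o
  have hpre : (sm f) ⁻¹' closure ({o} : Set (pt X).obj.left) = Set.univ :=
    Set.eq_univ_of_forall fun z => subset_closure (Subsingleton.elim (α := (pt X).obj.left) _ _)
  have hcomp : ∀ w, IsCompPt ((sm f) ⁻¹' closure ({o} : Set (pt X).obj.left)) w ↔ w = genericPoint X.obj.left := by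
    intro w
    rw [hpre]
    refine ⟨fun h => (h.2 _ trivial (genericPoint_specializes w)).symm, ?_⟩
    rintro rfl
    exact ⟨trivial, fun w' _ hw' => (hw'.antisymm (genericPoint_specializes w')).eq⟩
  have hdim : ∀ w, IsCompPt ((sm f) ⁻¹' closure ({o} : Set (pt X).obj.left)) w →
      (pdim X.obj.left w : ℤ) = pdim (pt X).obj.left o + dim X.obj.left - dim (pt X).obj.left := by
    intro w hw
    rw [(hcomp w).1 hw, pdim_gp, pdim_pt, dim_pt]
    simp
  have hflat : ∃ U : (pt X).obj.left.Opens, closure ({o} : Set (pt X).obj.left) ⊆ (U : Set (pt X).obj.left) ∧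
      Flat ((sm f) ∣_ U) := ⟨⊤, fun _ _ => trivial, by
    have : Flat (sm f) := inferInstanceAs (Flat X.obj.hom)
    infer_instance⟩
  have h := T.cl_pull f o hdim (Or.inl hflat)
  rw [hcl, map_one, finsum_eq_single _ ⟨genericPoint X.obj.left, (hcomp _).2 rfl⟩
    (fun w hw => absurd (Subtype.ext ((hcomp w.1).1 w.2)) hw)] at h
  rw [preimMult_generic, Nat.cast_one, one_smul] at h
  exact h.symm

/-- trace against the class of a section -/
theorem tr_cl_section {X Q : Var k} (j : X ⟶ Q) (p : Q ⟶ X) (h : j ≫ p = 𝟙 X) (a : T.H Q) :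
    T.tr Q (T.cl Q (sm j (genericPoint X.obj.left)) * a) = T.tr X (T.pull j a) := by
  have := tr_cl_mul_pull T j (genericPoint X.obj.left) a
  rw [cl_genericPoint, one_mul, residueDegree_section j p h, Nat.cast_one, one_mul] at this
  exact this.symm

theorem tr_pull_of_dominant {X Y : Var k} (f : X ⟶ Y)
    (hdom : sm f (genericPoint X.obj.left) = genericPoint Y.obj.left) (a : T.H Y) :
    T.tr X (T.pull f a) = ((sm f).residueDegree (genericPoint X.obj.left) : K) * T.tr Y a := by
  have := tr_cl_mul_pull T f (genericPoint X.obj.left) a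
  rwa [cl_genericPoint, one_mul, hdom, cl_genericPoint, one_mul] at this

theorem push_cl {X Y : Var k} (f : X ⟶ Y) (ξ : X.obj.left) :
    (T.push f (2 * (codim X.obj.left ξ : ℤ)) ⟨T.cl X ξ, T.cl_mem X ξ⟩ : T.H Y) =
      ((sm f).residueDegree ξ : K) • T.cl Y (sm f ξ) := by
  refine eq_of_tr T (push_mem T f _ _) ?_ fun b => ?_
  · by_cases hd : (sm f).residueDegree ξ = 0
    · rw [hd, Nat.cast_zero, zero_smul]; exact zero_mem _
    · refine Submodule.smul_mem _ _ (mem_of_eq T ?_ (T.cl_mem Y (sm f ξ)))
      have := codim_cast Y (sm f ξ); have := pdim_image f ξ hd; have := codim_cast X ξ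
      unfold D; omega
  · rw [tr_push_mul, tr_cl_mul_pull, smul_mul_assoc, map_smul, smul_eq_mul]

end Groth.Agent.WC97
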