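import Groth.Agent.WC97.Points

/-! The cohomological factorisation of the zeta function. -/

set_option autoImplicit false
universe u v

noncomputable section

open CategoryTheory AlgebraicGeometry WeilCoh PowerSeries

namespace Groth.Agent.WC97

theorem pullDeg_fpow {k : Type u} [Field k] [IsAlgClosed k] {K : Type v} [Field K] [CharZero K] (T : Theory k K)
    {Y : Var k} (F : Y ⟶ Y) (i : ℤ) : ∀ n, T.pullDeg (fpow F n) i = (T.pullDeg F i) ^ n
  | 0 => LinearMap.ext fun a => Subtype.ext (pull_id' T _)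
  | n + 1 => by
    rw [pow_succ, ← pullDeg_fpow T F i n]
    exact LinearMap.ext fun a => Subtype.ext (pull_pull T (fpow F n) F (a : T.H Y)).symm

variable {k₀ : Type u} [Field k₀] [Finite k₀] {k : Type u} [Field k] [IsAlgClosed k] [Algebra k₀ k]
  {K : Type v} [Field K] [CharZero K] (T : Theory k K)
  {X : Scheme.{u}} (f : X ⟶ Spec (.of k₀)) [LocallyOfFiniteType f] {Xb : Var k} {π : Xb.obj.left ⟶ X}
  (hπ : IsPullback π Xb.obj.hom f (Spec.map (CommRingCat.ofHom (algebraMap k₀ k))))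
  {F : Xb ⟶ Xb} {Q : Var k} {pr q : Q ⟶ Xb} (hQ : IsProd pr q)

include hπ hQ

theorem nPts_eq (hF : IsQFrob k₀ π F) {n : ℕ} (hn : n ≠ 0) :
    (Zeta.nPts f n : K) = ∑ i ∈ Finset.range (2 * dim Xb.obj.left + 1),
      (-1 : K) ^ i * LinearMap.trace K (T.gr Xb (i : ℤ)) ((T.pullDeg F (i : ℤ)) ^ n) := by
  obtain ⟨p, e, hp, hchar, he, hc, hFr⟩ := hF
  haveI := Fact.mk hp
  haveI := hchar
  let G := fpow F n
  have mkHom : ∀ (g : Xb.obj.left ⟶ Xb.obj.left), g ≫ Xb.obj.hom = Xb.obj.hom →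
      ∃ j : Xb ⟶ Q, j ≫ pr = 𝟙 Xb ∧ sm j ≫ sm q = g := by
    intro g hg
    let l := IsPullback.lift hQ (𝟙 Xb.obj.left) g (by rw [Category.id_comp, hg])
    have hl : l ≫ Q.obj.hom = Xb.obj.hom := by
      rw [← sm_hom pr, ← Category.assoc, IsPullback.lift_fst, Category.id_comp]
    refine ⟨ObjectProperty.homMk (Over.homMk l hl), ?_, IsPullback.lift_snd _ _ _ _⟩
    apply ObjectProperty.hom_ext
    apply Over.OverMorphism.ext
    exact IsPullback.lift_fst _ _ _ _
  obtain ⟨j, hjp, hjq⟩ := mkHom (sm G) (sm_hom G)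
  obtain ⟨d, hdp, hdq⟩ := mkHom (𝟙 _) (Category.id_comp _)
  have hjq' : j ≫ q = G := by
    apply ObjectProperty.hom_ext
    apply Over.OverMorphism.ext
    exact hjq
  have hdq' : d ≫ q = 𝟙 Xb := by
    apply ObjectProperty.hom_ext
    apply Over.OverMorphism.ext
    exact hdq
  have hne : e * n ≠ 0 := mul_ne_zero he hn
  obtain ⟨hfin, hcard⟩ := card_fixed hπ (hFr.fpow n) hQ hjp hjq' hdp hdq' T hne
  rw [card_fixed_eq_nPts f hπ (hFr.fpow n) hn (by rw [hc, ← pow_mul]) hfin] at hcard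
  rw [hcard]
  exact Finset.sum_congr rfl fun i _ => by rw [pullDeg_fpow]

theorem zeta_mul_prod (hF : IsQFrob k₀ π F) :
    PowerSeries.map (algebraMap ℚ K) (Zeta.zetaFun f) *
        (∏ i ∈ Finset.range (dim Xb.obj.left + 1),
          ((LinearMap.charpoly (T.pullDeg F ((2 * i : ℕ) : ℤ))).reverse : K⟦X⟧)) =
      ∏ i ∈ Finset.range (dim Xb.obj.left),
        ((LinearMap.charpoly (T.pullDeg F ((2 * i + 1 : ℕ) : ℤ))).reverse : K⟦X⟧) := by
  let t : ℕ → K⟦X⟧ := fun i => trSeries (T.pullDeg F ((i : ℕ) : ℤ))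
  let L : K⟦X⟧ := PowerSeries.map (algebraMap ℚ K) (Zeta.logZeta f)
  have hL0 : constantCoeff L = 0 := by
    rw [← coeff_zero_eq_constantCoeff_apply, coeff_map, Zeta.logZeta, coeff_mk]
    simp [Zeta.nPts]
  have hDL : d⁄dX K L = (∑ i ∈ Finset.range (dim Xb.obj.left + 1), t (2 * i)) -
      ∑ i ∈ Finset.range (dim Xb.obj.left), t (2 * i + 1) := by
    ext m
    rw [coeff_derivative, coeff_map, Zeta.logZeta, coeff_mk, map_div₀, map_natCast, map_natCast,
      ← Nat.cast_add_one, div_mul_cancel₀ _ (Nat.cast_ne_zero.2 m.succ_ne_zero), nPts_eq T f hπ hQ hF m.succ_ne_zero,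
      sum_range_two_mul_succ, map_sub, map_sum, map_sum, sub_eq_add_neg, ← Finset.sum_neg_distrib]
    congr 1
    · exact Finset.sum_congr rfl fun i _ => by simp [t, trSeries]
    · exact Finset.sum_congr rfl fun i _ => by simp [t, trSeries, pow_succ]
  have hz : PowerSeries.map (algebraMap ℚ K) (Zeta.zetaFun f) = (PowerSeries.exp K).subst L := by
    rw [Zeta.zetaFun]
    refine (PowerSeries.map_subst (HasSubst.of_constantCoeff_zero' ?_) _).trans ?_
    · rw [← coeff_zero_eq_constantCoeff_apply, Zeta.logZeta, coeff_mk]; simp [Zeta.nPts]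
    · rw [PowerSeries.map_exp]; rfl
  have hDz : d⁄dX K ((PowerSeries.exp K).subst L) = d⁄dX K L * (PowerSeries.exp K).subst L := by
    rw [derivative_subst (HasSubst.of_constantCoeff_zero' hL0), derivative_exp, mul_comm]
  rw [hz]
  refine ext_logDeriv (g := -∑ i ∈ Finset.range (dim Xb.obj.left), t (2 * i + 1)) ?_ ?_ ?_
  · rw [Derivation.leibniz, hDz, logDeriv_prod _ _ (fun i => -t (2 * i)) fun i _ => derivative_charpoly_reverse _,
      hDL, smul_eq_mul, smul_eq_mul, Finset.sum_neg_distrib]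
    ring
  · rw [logDeriv_prod _ _ (fun i => -t (2 * i + 1)) fun i _ => derivative_charpoly_reverse _, Finset.sum_neg_distrib]
  · have hexp : constantCoeff ((PowerSeries.exp K).subst L) = 1 := by
      show MvPowerSeries.constantCoeff ((PowerSeries.exp K).subst L) = 1
      rw [constantCoeff_subst (HasSubst.of_constantCoeff_zero' hL0), finsum_eq_single _ 0]
      · simp
      · intro m hm
        rw [map_pow, show MvPowerSeries.constantCoeff L = 0 from hL0, zero_pow hm, smul_zero]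
    rw [map_mul, hexp, map_prod, map_prod, one_mul, Finset.prod_congr rfl fun i _ => constantCoeff_charpoly_reverse _,
      Finset.prod_const_one, Finset.prod_congr rfl fun i _ => constantCoeff_charpoly_reverse _, Finset.prod_const_one]

theorem zeta_rational (hF : IsQFrob k₀ π F) (T : Theory k K) :
    ∃ P Q : Polynomial ℚ, Q ≠ 0 ∧ Zeta.zetaFun f * (Q : PowerSeries ℚ) = (P : PowerSeries ℚ) := by
  refine rational_descent (K := K) (Zeta.zetaFun f)
    (Q := ∏ i ∈ Finset.range (dim Xb.obj.left + 1), (LinearMap.charpoly (T.pullDeg F ((2 * i : ℕ) : ℤ))).reverse)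
    (P := ∏ i ∈ Finset.range (dim Xb.obj.left), (LinearMap.charpoly (T.pullDeg F ((2 * i + 1 : ℕ) : ℤ))).reverse)
    (Finset.prod_ne_zero_iff.2 fun i _ h => by
      rw [Polynomial.reverse_eq_zero] at h
      exact (LinearMap.charpoly_monic _).ne_zero h) ?_
  have := zeta_mul_prod T f hπ hQ hF
  simp only [← Polynomial.coeToPowerSeries.ringHom_apply, map_prod] at this ⊢
  exact this

end Groth.Agent.WC97
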