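import Groth.Agent.WC97.Prod
import Groth.Agent.WC97.Fixed

/-! The trace formula for a pair of correspondences. -/

set_option autoImplicit false
universe u v

noncomputable section

open CategoryTheory AlgebraicGeometry WeilCoh

namespace Groth.Agent.WC97

variable {k : Type u} [Field k] [IsAlgClosed k] {K : Type v} [Field K] [CharZero K] (T : Theory k K)

omit [CharZero K] in
theorem sgn_eq_zpow (i j : ℤ) : (sgn i j : K) = (-1 : K) ^ (i * j) := by
  rw [sgn, ← Int.natAbs_mul]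
  rcases Int.even_or_odd (i * j) with h | h
  · rw [h.neg_one_zpow, (Int.natAbs_even.2 h).neg_one_pow]
  · rw [h.neg_one_zpow, (Int.natAbs_odd.2 h).neg_one_pow]

omit [CharZero K] in
theorem sgn_mul_sgn_of_even {i j s t : ℤ} (h : Even (i * j + s * t)) : (sgn i j : K) * sgn s t = 1 := by
  rw [sgn_eq_zpow, sgn_eq_zpow, ← zpow_add₀ (by norm_num), h.neg_one_zpow]

theorem exists_trace_basis (X : Var k) (i : ℕ) :
    ∃ (e : Module.Basis (Fin (Module.finrank K (T.gr X (i : ℤ)))) K (T.gr X (i : ℤ)))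
      (g : Fin (Module.finrank K (T.gr X (i : ℤ))) → T.gr X (D X - i)),
      ∀ l (c : T.gr X (i : ℤ)), T.tr X ((g l : T.H X) * c) = e.repr c l := by
  have := T.duality X (D X - i) i (by unfold D; omega)
  choose g hg using fun l => this.bijective_left.surjective ((Module.finBasis K (T.gr X (i : ℤ))).coord l)
  exact ⟨Module.finBasis K _, g, fun l c => LinearMap.congr_fun (hg l) c⟩

variable {X Y P P' : Var k} {p : P ⟶ X} {q : P ⟶ Y} (hP : IsProd p q)
  {p' : P' ⟶ Y} {q' : P' ⟶ X} (hP' : IsProd p' q') {σ : P ⟶ P'} (h₁ : σ ≫ p' = q) (h₂ : σ ≫ q' = p)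

include hP hP' h₁ h₂ in
theorem tr_swap (z : T.H P') : T.tr P (T.pull σ z) = T.tr P' z := by
  have w : sm q' ≫ X.obj.hom = sm p' ≫ Y.obj.hom := by rw [sm_hom, sm_hom]
  let τs := hP.lift (sm q') (sm p') w
  have hτ : τs ≫ P.obj.hom = P'.obj.hom := by
    rw [← sm_hom p, ← Category.assoc, IsPullback.lift_fst, sm_hom]
  let τ : P' ⟶ P := ObjectProperty.homMk (Over.homMk τs hτ)
  have hστ : σ ≫ τ = 𝟙 P := by
    refine ObjectProperty.hom_ext _ (Over.OverMorphism.ext (hP.hom_ext ?_ ?_))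
    · show (sm σ ≫ τs) ≫ sm p = 𝟙 _ ≫ sm p
      rw [Category.assoc, IsPullback.lift_fst, Category.id_comp, ← sm_comp, h₂]
    · show (sm σ ≫ τs) ≫ sm q = 𝟙 _ ≫ sm q
      rw [Category.assoc, IsPullback.lift_snd, Category.id_comp, ← sm_comp, h₁]
  have hτσ : τ ≫ σ = 𝟙 P' := by
    refine ObjectProperty.hom_ext _ (Over.OverMorphism.ext (hP'.hom_ext ?_ ?_))
    · show (τs ≫ sm σ) ≫ sm p' = 𝟙 _ ≫ sm p'
      rw [Category.assoc, ← sm_comp, h₁, IsPullback.lift_snd, Category.id_comp]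
    · show (τs ≫ sm σ) ≫ sm q' = 𝟙 _ ≫ sm q'
      rw [Category.assoc, ← sm_comp, h₂, IsPullback.lift_fst, Category.id_comp]
  have hdom : sm σ (genericPoint P.obj.left) = genericPoint P'.obj.left := by
    refine Specializes.antisymm ?_ (genericPoint_specializes _) |>.eq
    have e : sm σ (sm τ (genericPoint P'.obj.left)) = genericPoint P'.obj.left := by
      rw [← Scheme.Hom.comp_apply, ← sm_comp, hτσ]; rfl
    have hs : sm σ (genericPoint P.obj.left) ⤳ sm σ (sm τ (genericPoint P'.obj.left)) :=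
      (genericPoint_specializes _).map (sm σ).continuous
    rwa [e] at hs
  rw [tr_pull_of_dominant T σ hdom, residueDegree_section σ τ hστ, Nat.cast_one, one_mul]

include hP hP' h₁ h₂ in
theorem corr_trace_formula (r : ℤ) (φ : T.H P) (hφ : φ ∈ T.gr P (D X + r))
    (ψ : T.H P') (hψ : ψ ∈ T.gr P' (D Y - r)) (E : ∀ i : ℕ, Module.End K (T.gr X (i : ℤ)))
    (hE : ∀ (i : ℕ) (x : T.gr X (i : ℤ)), ∃ y ∈ T.gr Y (i + r),
      (∀ c, T.tr Y (y * c) = T.tr P (T.pull p (x : T.H X) * φ * T.pull q c)) ∧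
      (∀ b, T.tr X ((E i x : T.H X) * b) = T.tr P' (T.pull p' y * ψ * T.pull q' b))) :
    T.tr P (φ * T.pull σ ψ) =
      ∑ i ∈ Finset.range (2 * dim X.obj.left + 1), (-1 : K) ^ i * LinearMap.trace K (T.gr X (i : ℤ)) (E i) := by
  classical
  have hd := dim_prod T hP
  choose e g hg using fun i => exists_trace_basis T X i
  choose A hAmem hA1 hA2 using hE
  have hdec : φ = ∑ i ∈ Finset.range (2 * dim X.obj.left + 1), (-1 : K) ^ i •
      ∑ l, T.pull p (g i l : T.H X) * T.pull q (A i (e i l)) := by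
    refine eq_of_tr T hφ ?_ fun b => ?_
    · refine Submodule.sum_mem _ fun i _ => Submodule.smul_mem _ _ (Submodule.sum_mem _ fun l _ => ?_)
      exact mem_of_eq T (by ring) (SetLike.mul_mem_graded (T.pull_mem p _ _ (g i l).2)
        (T.pull_mem q _ _ (hAmem i (e i l))))
    refine LinearMap.congr_fun (ext_kunneth T hP (f := (T.tr P).comp (LinearMap.mulLeft K φ))
      (g := (T.tr P).comp (LinearMap.mulLeft K _)) fun s t a ha c hc => ?_) b
    show T.tr P (φ * (T.pull p a * T.pull q c)) = T.tr P (_ * (T.pull p a * T.pull q c))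
    simp only [Finset.sum_mul, map_sum, smul_mul_assoc, map_smul, smul_eq_mul]
    rw [Finset.sum_congr rfl fun i _ => by
      rw [Finset.sum_congr rfl fun l _ => tr_four T hP (g i l).2 ha (hAmem i (e i l)) hc]]
    by_cases hs : s < 0 ∨ D X < s
    · have : a ∈ (⊥ : Submodule K (T.H X)) := T.vanish X s hs ▸ ha
      rw [(Submodule.mem_bot K).1 this]
      simp
    push Not at hs
    obtain ⟨m, rfl⟩ := Int.eq_ofNat_of_zero_le hs.1
    rw [Finset.sum_eq_single m (fun i _ hi => ?_)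
      (fun h => absurd (Finset.mem_range.2 (by unfold D at hs; omega)) h)]
    swap
    · rw [Finset.sum_eq_zero, mul_zero]
      intro l _
      rw [tr_mul_eq_zero T (g i l).2 ha (by unfold D; omega), zero_mul, mul_zero]
    have h1 : T.tr P (φ * (T.pull p a * T.pull q c)) =
        sgn (D X + r) m * T.tr Y (A m ⟨a, ha⟩ * c) := by
      rw [hA1, ← mul_assoc, comm_hom T hφ (T.pull_mem p _ _ ha), smul_mul_assoc, map_smul, smul_eq_mul]
    rw [h1]
    have hlin : T.tr Y (A m ⟨a, ha⟩ * c) = ∑ l, (e m).repr ⟨a, ha⟩ l * T.tr Y (A m (e m l) * c) := by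
      simp only [hA1]
      let F : T.gr X (m : ℤ) →ₗ[K] K := ((T.tr P).comp ((LinearMap.mulRight K (T.pull q c)).comp
        ((LinearMap.mulRight K φ).comp (T.pull p).toLinearMap))).comp (T.gr X (m : ℤ)).subtype
      show F ⟨a, ha⟩ = ∑ l, (e m).repr ⟨a, ha⟩ l * F (e m l)
      conv_lhs => rw [← (e m).sum_repr ⟨a, ha⟩]
      simp only [map_sum, map_smul, smul_eq_mul]
    rw [hlin, Finset.mul_sum, Finset.mul_sum]
    refine Finset.sum_congr rfl fun l _ => ?_
    rw [hg m l ⟨a, ha⟩]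
    have hsgn : (-1 : K) ^ m * sgn (↑m + r) ↑m = sgn (D X + r) ↑m := by
      rw [sgn_eq_zpow, sgn_eq_zpow, ← zpow_natCast, ← zpow_add₀ (by norm_num : (-1 : K) ≠ 0),
        neg_one_zpow_eq_ite, neg_one_zpow_eq_ite]
      congr 1
      simp only [D, Int.even_add, Int.even_mul, even_two, true_or, iff_true, eq_iff_iff]
      tauto
    rw [← mul_assoc ((-1 : K) ^ m), hsgn]
  rw [hdec, Finset.sum_mul, map_sum]
  refine Finset.sum_congr rfl fun i _ => ?_
  rw [smul_mul_assoc, map_smul, smul_eq_mul, Finset.sum_mul, map_sum, LinearMap.trace_eq_matrix_trace K (e i),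
    Matrix.trace]
  congr 1
  refine Finset.sum_congr rfl fun l _ => ?_
  rw [Matrix.diag_apply, LinearMap.toMatrix_apply, ← hg i l (E i (e i l)),
    comm_hom T (g i l).2 (E i (e i l)).2, map_smul, smul_eq_mul, hA2,
    comm_hom T (SetLike.mul_mem_graded (T.pull_mem p' _ _ (hAmem i (e i l))) hψ) (T.pull_mem q' _ _ (g i l).2),
    map_smul, smul_eq_mul, ← mul_assoc, sgn_mul_sgn_of_even, one_mul]
  · rw [← tr_swap T hP hP' h₁ h₂, map_mul (T.pull σ), map_mul (T.pull σ), pull_pull, pull_pull, h₁, h₂, mul_assoc]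
  · simp only [D, Int.even_add, Int.even_sub, Int.even_mul, even_two, true_or, iff_true]
    tauto

end Groth.Agent.WC97
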