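import Mathlib

/-! The degree of a finitely generated field extension of a perfect field over its subfield of
`p^e`-th powers is `p^(e·d)`, `d` the transcendence degree. -/

set_option autoImplicit false
universe u

noncomputable section

open MvPolynomial

namespace Groth.Agent.WC97

variable (p e : ℕ) [hp : Fact p.Prime]

/-- the subfield of `p^e`-th powers -/
def powSubfield (L : Type u) [Field L] [CharP L p] : Subfield L := (iterateFrobenius L p e).fieldRange

lemma mem_powSubfield {L : Type u} [Field L] [CharP L p] {x : L} :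
    x ∈ powSubfield p e L ↔ ∃ y, y ^ p ^ e = x := Iff.rfl

lemma map_powSubfield {L M : Type u} [Field L] [CharP L p] [Field M] [CharP M p] (φ : L →+* M) :
    (powSubfield p e L).map φ = (φ.fieldRange).map (iterateFrobenius M p e) := by
  rw [powSubfield, RingHom.map_fieldRange, RingHom.map_fieldRange]
  congr 1
  refine RingHom.ext fun x => ?_
  simp [iterateFrobenius_def, map_pow]

section poly

variable (k : Type u) [Field k] [CharP k p] [PerfectRing k p] (d : ℕ)

lemma exists_root (c : k) : ∃ c' : k, c' ^ p ^ e = c := by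
  obtain ⟨c', hc'⟩ := (bijective_iterateFrobenius k p e).2 c
  exact ⟨c', hc'⟩

/-- exponent with entries below `p^e` -/
def expo (a : Fin d → Fin (p ^ e)) : Fin d →₀ ℕ := Finsupp.equivFunOnFinite.symm fun i => (a i : ℕ)

lemma span_monomials (f : MvPolynomial (Fin d) k) :
    ∃ c : (Fin d → Fin (p ^ e)) → MvPolynomial (Fin d) k,
      f = ∑ a, c a ^ p ^ e * monomial (expo p e d a) 1 := by
  classical
  induction f using MvPolynomial.induction_on' with
  | monomial m r =>
    obtain ⟨r', hr'⟩ := exists_root p e k r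
    let a₀ : Fin d → Fin (p ^ e) := fun i => ⟨m i % p ^ e, Nat.mod_lt _ (pow_pos hp.out.pos e)⟩
    let n : Fin d →₀ ℕ := Finsupp.equivFunOnFinite.symm fun i => m i / p ^ e
    refine ⟨fun a => if a = a₀ then monomial n r' else 0, ?_⟩
    rw [Finset.sum_eq_single a₀ (fun a _ ha => by simp only; rw [if_neg ha, zero_pow (pow_ne_zero e hp.out.ne_zero), zero_mul])
      (fun h => absurd (Finset.mem_univ _) h)]
    simp only [if_true]
    rw [monomial_pow, monomial_mul, mul_one, hr']
    have hm : p ^ e • n + expo p e d a₀ = m := Finsupp.ext fun i => by simp [n, a₀, expo, Nat.div_add_mod]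
    rw [hm]
  | add f g hf hg =>
    obtain ⟨c, rfl⟩ := hf
    obtain ⟨c', rfl⟩ := hg
    refine ⟨c + c', ?_⟩
    rw [← Finset.sum_add_distrib]
    exact Finset.sum_congr rfl fun a _ => by rw [Pi.add_apply, add_pow_char_pow, add_mul]

lemma li_monomials (c : (Fin d → Fin (p ^ e)) → MvPolynomial (Fin d) k)
    (h : ∑ a, c a ^ p ^ e * monomial (expo p e d a) 1 = 0) : c = 0 := by
  classical
  funext a
  refine MvPolynomial.ext _ _ fun n => ?_
  have key : ∀ b m, coeff (p ^ e • n + expo p e d a) (monomial (p ^ e • m + expo p e d b) ((coeff m (c b)) ^ p ^ e)) =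
      if m = n ∧ b = a then (coeff n (c a)) ^ p ^ e else 0 := by
    intro b m
    rw [coeff_monomial]
    by_cases hmb : m = n ∧ b = a
    · obtain ⟨rfl, rfl⟩ := hmb; rw [if_pos rfl, if_pos ⟨rfl, rfl⟩]
    · rw [if_neg hmb, if_neg]
      intro hh
      refine hmb ⟨Finsupp.ext fun i => ?_, funext fun i => Fin.ext ?_⟩
      all_goals
        have hi := DFunLike.congr_fun hh i
        simp [expo] at hi
      · have := congrArg (· / p ^ e) hi
        simp [Nat.mul_add_div (pow_pos hp.out.pos e), Nat.div_eq_of_lt (b i).2, Nat.div_eq_of_lt (a i).2] at this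
        exact this
      · have := congrArg (· % p ^ e) hi
        simp [Nat.mul_add_mod, Nat.mod_eq_of_lt (b i).2, Nat.mod_eq_of_lt (a i).2] at this
        exact this
  have h2 : ∀ b, c b ^ p ^ e * monomial (expo p e d b) 1 =
      ∑ m ∈ (c b).support, monomial (p ^ e • m + expo p e d b) ((coeff m (c b)) ^ p ^ e) := by
    intro b
    conv_lhs => rw [(c b).as_sum]
    rw [sum_pow_char_pow, Finset.sum_mul]
    exact Finset.sum_congr rfl fun m _ => by rw [monomial_pow, monomial_mul, mul_one]
  have h3 := congrArg (coeff (p ^ e • n + expo p e d a)) h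
  simp only [h2, coeff_sum, key, coeff_zero] at h3
  rw [Finset.sum_eq_single a (fun b _ hb => Finset.sum_eq_zero fun m _ => if_neg fun h => hb h.2)
    (fun h => absurd (Finset.mem_univ _) h)] at h3
  simp only [and_true] at h3
  rw [Finset.sum_ite_eq'] at h3
  show coeff n (c a) = coeff n 0
  rw [coeff_zero]
  split_ifs at h3 with hn
  · exact eq_zero_of_pow_eq_zero h3
  · exact notMem_support_iff.1 hn

/-- `[k(t₁, …, t_d) : k(t)^{p^e}] = p^{e d}`. -/
theorem finrank_ratFunc : Module.finrank (powSubfield p e (FractionRing (MvPolynomial (Fin d) k)))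
    (FractionRing (MvPolynomial (Fin d) k)) = (p ^ e) ^ d := by
  classical
  let R := MvPolynomial (Fin d) k
  let F := FractionRing R
  let S := powSubfield p e F
  let ι : R →+* F := algebraMap R F
  have hι : Function.Injective ι := IsFractionRing.injective R F
  let v : (Fin d → Fin (p ^ e)) → F := fun a => ι (monomial (expo p e d a) 1)
  have hli : LinearIndependent S v := by
    rw [Fintype.linearIndependent_iff]
    intro g hg a
    choose y hy using fun a => (mem_powSubfield p e).1 (g a).2
    obtain ⟨⟨D, hD⟩, hDy⟩ := IsLocalization.exist_integer_multiples_of_finite (nonZeroDivisors R) y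
    choose c hc using hDy
    have hc' : ∀ a, ι (c a) = ι D * y a := fun a => (hc a).trans (Algebra.smul_def _ _)
    have hD0 : ι D ≠ 0 := (map_ne_zero_iff ι hι).2 (nonZeroDivisors.ne_zero hD)
    have h0 : c = 0 := li_monomials p e k d c (hι (by
      rw [map_sum, map_zero]
      calc ∑ a, ι (c a ^ p ^ e * monomial (expo p e d a) 1) = ι D ^ p ^ e * ∑ a, (g a : F) * v a := by
            rw [Finset.mul_sum]
            refine Finset.sum_congr rfl fun a _ => ?_
            rw [map_mul, map_pow, hc', mul_pow, hy, mul_assoc]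
        _ = 0 := by
            have hg' : ∑ a, (g a : F) * v a = 0 := by simpa [Subfield.smul_def] using hg
            rw [hg', mul_zero]))
    have : ι D * y a = 0 := by rw [← hc', h0, Pi.zero_apply, map_zero]
    refine Subtype.ext ?_
    rw [← hy a, (mul_eq_zero.1 this).resolve_left hD0, zero_pow (pow_ne_zero e hp.out.ne_zero)]
    rfl
  have hsp : ⊤ ≤ Submodule.span S (Set.range v) := by
    intro x _
    obtain ⟨f, g, hg, rfl⟩ := IsFractionRing.div_surjective R x
    obtain ⟨c, hc⟩ := span_monomials p e k d (f * g ^ (p ^ e - 1))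
    have hg0 : ι g ≠ 0 := (map_ne_zero_iff ι hι).2 (nonZeroDivisors.ne_zero hg)
    have hx : ι f / ι g = ∑ a, (ι (c a) / ι g) ^ p ^ e * v a := by
      have h1 : ι (f * g ^ (p ^ e - 1)) = ∑ a, ι (c a) ^ p ^ e * v a := by
        rw [hc, map_sum]; exact Finset.sum_congr rfl fun a _ => by rw [map_mul, map_pow]
      have h2 : ι f / ι g = ι (f * g ^ (p ^ e - 1)) / ι g ^ p ^ e := by
        obtain ⟨q, hq⟩ : ∃ q, p ^ e = q + 1 := ⟨p ^ e - 1, (Nat.sub_add_cancel (Nat.one_le_pow _ _ hp.out.pos)).symm⟩
        rw [map_mul, map_pow, hq, Nat.add_sub_cancel, pow_succ, div_eq_div_iff hg0 (mul_ne_zero (pow_ne_zero _ hg0) hg0)]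
        ring
      rw [h2, h1, Finset.sum_div]
      exact Finset.sum_congr rfl fun a _ => by rw [div_pow]; ring
    show ι f / ι g ∈ _
    rw [hx]
    exact Submodule.sum_mem _ fun a _ => Submodule.smul_mem _ (⟨_, (mem_powSubfield p e).2 ⟨_, rfl⟩⟩ : S)
      (Submodule.subset_span ⟨a, rfl⟩)
  rw [Module.finrank_eq_card_basis (Module.Basis.mk hli hsp), Fintype.card_fun, Fintype.card_fin, Fintype.card_fin]

end poly

/-- `[L : L^{p^e}] = (p^e)^{trdeg L}` for `L` finitely generated over a perfect field. -/
theorem finrank_powSubfield (k : Type u) [Field k] [CharP k p] [PerfectRing k p] (L : Type u) [Field L]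
    [CharP L p] [Algebra k L] [Algebra.EssFiniteType k L] (d : ℕ) (hd : Algebra.trdeg k L = d) :
    Module.finrank (powSubfield p e L) L = (p ^ e) ^ d := by
  obtain ⟨ι, x, hx⟩ := exists_isTranscendenceBasis' k L
  have hι : Cardinal.mk ι = d := hx.cardinalMk_eq_trdeg.trans hd
  have : Finite ι := Cardinal.lt_aleph0_iff_finite.1 (hι ▸ Cardinal.natCast_lt_aleph0)
  have hc : Nat.card ι = d := by rw [Nat.card, hι, Cardinal.toNat_natCast]
  let r : Fin d ≃ ι := (Finite.equivFinOfCardEq hc).symm
  let R := MvPolynomial (Fin d) k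
  let F := FractionRing R
  let ψ : R →ₐ[k] L := aeval (x ∘ r)
  have hy : IsTranscendenceBasis k (x ∘ r) := hx.comp_equiv r
  let φ : F →+* L := IsFractionRing.lift (g := ψ.toRingHom) hy.1
  let E : Subfield L := φ.fieldRange
  have hEE : E = (IntermediateField.adjoin k (Set.range (x ∘ r))).toSubfield := by
    rw [show E = φ.fieldRange from rfl, IsFractionRing.lift_fieldRange]
    apply le_antisymm
    · rw [Subfield.closure_le]
      rintro _ ⟨f, rfl⟩
      exact IntermediateField.algebra_adjoin_le_adjoin k _
        ((Algebra.adjoin_range_eq_range_aeval k (x ∘ r)).ge ⟨f, rfl⟩)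
    · rw [IntermediateField.adjoin_toSubfield, Subfield.closure_le]
      rintro z (⟨c, rfl⟩ | ⟨i, rfl⟩)
      · exact Subfield.subset_closure ⟨C c, (aeval_C _ c)⟩
      · exact Subfield.subset_closure ⟨MvPolynomial.X i, (aeval_X _ i)⟩
  let σ := iterateFrobenius L p e
  have halg : Module.finrank E L ≠ 0 := by
    rw [hEE]
    let A := IntermediateField.adjoin k (Set.range (x ∘ r))
    have : Algebra.IsAlgebraic A L := hy.isAlgebraic_field
    have : Algebra.EssFiniteType A L := .of_comp k A L
    have : Module.Finite A L := Algebra.finite_of_essFiniteType_of_isAlgebraic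
    exact (Module.finrank_pos (R := A) (M := L)).ne'
  have h1 : powSubfield p e L = (⊤ : Subfield L).map σ := RingHom.fieldRange_eq_map σ
  have hle1 : E.map σ ≤ E := by
    rintro _ ⟨z, hz, rfl⟩
    exact pow_mem hz _
  have hle2 : E.map σ ≤ (⊤ : Subfield L).map σ :=
    (Subfield.gc_map_comap σ).monotone_l le_top
  have e1 := Subfield.relfinrank_mul_finrank_top hle1
  have e2 := Subfield.relfinrank_mul_finrank_top hle2
  rw [Subfield.relfinrank_map_map, Subfield.relfinrank_top_right] at e2
  have e3 : Subfield.relfinrank (E.map σ) E = (p ^ e) ^ d := by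
    have : CharP F p := charP_of_injective_algebraMap (R := k) (FaithfulSMul.algebraMap_injective k F) p
    rw [← map_powSubfield p e φ, show E = (⊤ : Subfield F).map φ from RingHom.fieldRange_eq_map φ,
      Subfield.relfinrank_map_map, Subfield.relfinrank_top_right]
    exact finrank_ratFunc p e k d
  rw [e3, ← e2, ← h1] at e1
  rw [mul_comm] at e1
  exact (Nat.eq_of_mul_eq_mul_left (Nat.pos_of_ne_zero halg) e1).symm

end Groth.Agent.WC97
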