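import Groth.Agent.WC97.Var
import Groth.Agent.WC97.FrobField

/-! The Frobenius endomorphism of the base change to an algebraically closed field of a scheme over
a finite field: residue fields, degree, tangent map. -/

set_option autoImplicit false
universe u

noncomputable section

open CategoryTheory AlgebraicGeometry WeilCoh

namespace Groth.Agent.WC97

variable {k : Type u} [Field k] {X : Scheme.{u}} {Xb : Var k}

/-- `F` is, over `π`, the `p^e`-th power Frobenius: it preserves the fibres of `π` and raises functions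
coming from `X` to the `p^e`-th power. -/
structure IsFrob (p e : ℕ) (π : Xb.obj.left ⟶ X) (F : Xb ⟶ Xb) : Prop where
  map_pi : ∀ x, π (sm F x) = π x
  app : ∀ (U : X.Opens) (h : π ⁻¹ᵁ U ≤ sm F ⁻¹ᵁ (π ⁻¹ᵁ U)) (s : Γ(X, U)),
    (sm F).appLE (π ⁻¹ᵁ U) (π ⁻¹ᵁ U) h (π.app U s) = (π.app U s) ^ (p ^ e)

theorem isFrob_of_absolute {p e : ℕ} {π : Xb.obj.left ⟶ X} {F : Xb ⟶ Xb} (FX : X ⟶ X)
    (hFb : FX.base = 𝟙 _) (hle : ∀ U : X.Opens, U ≤ FX ⁻¹ᵁ U)
    (hFapp : ∀ (U : X.Opens) (s : Γ(X, U)), (FX.appLE U U (hle U)).hom s = s ^ (p ^ e))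
    (hF : sm F ≫ π = π ≫ FX) : IsFrob p e π F := by
  have hx : ∀ x, π (sm F x) = π x := fun x => by
    rw [← Scheme.Hom.comp_apply, hF, Scheme.Hom.comp_apply]
    exact DFunLike.congr_fun (congrArg (fun g => (TopCat.Hom.hom g : C(X, X))) hFb) (π x)
  refine ⟨hx, fun U h s => ?_⟩
  have e1 : π.appLE U (π ⁻¹ᵁ U) le_rfl ≫ (sm F).appLE (π ⁻¹ᵁ U) (π ⁻¹ᵁ U) h =
      FX.appLE U U (hle U) ≫ π.appLE U (π ⁻¹ᵁ U) le_rfl := by
    rw [Scheme.Hom.appLE_comp_appLE, Scheme.Hom.appLE_comp_appLE]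
    have key : ∀ g g' : Xb.obj.left ⟶ X, g = g' → ∀ h₁ h₂,
        g.appLE U (π ⁻¹ᵁ U) h₁ = g'.appLE U (π ⁻¹ᵁ U) h₂ := by rintro _ _ rfl _ _; rfl
    exact key _ _ hF _ _
  rw [Scheme.Hom.app_eq_appLE]
  refine (congrArg (fun g : Γ(X, U) ⟶ Γ(Xb.obj.left, π ⁻¹ᵁ U) => g.hom s) e1).trans ?_
  rw [CommRingCat.hom_comp, RingHom.comp_apply, hFapp, map_pow]

namespace IsFrob

variable {p e : ℕ} {π : Xb.obj.left ⟶ X} {F : Xb ⟶ Xb}

theorem preimage_eq (h : IsFrob p e π F) (U : X.Opens) : sm F ⁻¹ᵁ (π ⁻¹ᵁ U) = π ⁻¹ᵁ U := by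
  ext x
  show π (sm F x) ∈ U ↔ π x ∈ U
  rw [h.map_pi]

theorem comp {e' : ℕ} {G : Xb ⟶ Xb} (h : IsFrob p e π F) (h' : IsFrob p e' π G) :
    IsFrob p (e + e') π (G ≫ F) := by
  refine ⟨fun x => (h.map_pi _).trans (h'.map_pi x), fun U hU s => ?_⟩
  have e1 : (sm (G ≫ F)).appLE (π ⁻¹ᵁ U) (π ⁻¹ᵁ U) hU =
      (sm F).appLE (π ⁻¹ᵁ U) (π ⁻¹ᵁ U) (h.preimage_eq U).ge ≫ (sm G).appLE (π ⁻¹ᵁ U) (π ⁻¹ᵁ U) (h'.preimage_eq U).ge := by
    rw [Scheme.Hom.appLE_comp_appLE]; rfl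
  rw [e1, CommRingCat.comp_apply]
  show (sm G).appLE _ _ _ ((sm F).appLE _ _ _ (π.app U s)) = _
  rw [h.app U _ s, map_pow, h'.app U _ s, ← pow_mul, ← pow_add, Nat.add_comm]

theorem id (p : ℕ) (π : Xb.obj.left ⟶ X) : IsFrob p 0 π (𝟙 Xb) := by
  refine ⟨fun _ => rfl, fun U h s => ?_⟩
  rw [pow_zero, pow_one]
  show (Scheme.Hom.appLE (𝟙 _) _ _ h).hom _ = _
  have e1 : Scheme.Hom.appLE (𝟙 Xb.obj.left) (π ⁻¹ᵁ U) ((𝟙 Xb.obj.left : _ ⟶ _) ⁻¹ᵁ (π ⁻¹ᵁ U)) le_rfl =
      𝟙 _ := by rw [Scheme.Hom.appLE_eq_app, Scheme.Hom.id_app]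
  exact congrArg (fun g : Γ(Xb.obj.left, π ⁻¹ᵁ U) ⟶ Γ(Xb.obj.left, π ⁻¹ᵁ U) => g.hom (π.app U s)) e1

end IsFrob

/-- the powers of an endomorphism -/
def fpow (F : Xb ⟶ Xb) : ℕ → (Xb ⟶ Xb)
  | 0 => 𝟙 _
  | n + 1 => fpow F n ≫ F

theorem IsFrob.fpow {p e : ℕ} {π : Xb.obj.left ⟶ X} {F : Xb ⟶ Xb} (h : IsFrob p e π F) :
    ∀ n, IsFrob p (e * n) π (fpow F n)
  | 0 => by rw [mul_zero]; exact IsFrob.id p π
  | n + 1 => by rw [Nat.mul_succ, Nat.add_comm]; exact h.comp (h.fpow n)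

section gen

variable {k₀ : Type u} [Field k₀] [Algebra k₀ k]
  {f : X ⟶ Spec (.of k₀)} {π : Xb.obj.left ⟶ X}
  (hπ : IsPullback π Xb.obj.hom f (Spec.map (CommRingCat.ofHom (algebraMap k₀ k))))

include hπ

theorem isAffineOpen_preimage {U : X.Opens} (hU : IsAffineOpen U) : IsAffineOpen (π ⁻¹ᵁ U) := by
  have : IsAffineHom π := MorphismProperty.of_isPullback hπ.flip inferInstance
  exact hU.preimage π

/-- sections over the preimage of an affine open are generated by those of `X` and by `k` -/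
theorem generated {U : X.Opens} (hU : IsAffineOpen U) (S : Subring Γ(Xb.obj.left, π ⁻¹ᵁ U))
    (h1 : ∀ a, π.app U a ∈ S) (h2 : ∀ c, kSec Xb.obj.hom (isAffineOpen_preimage hπ hU) c ∈ S) :
    S = ⊤ := by
  let W := π ⁻¹ᵁ U
  have hW : IsAffineOpen W := isAffineOpen_preimage hπ hU
  let incl : CommRingCat.of S ⟶ Γ(Xb.obj.left, W) := CommRingCat.ofHom S.subtype
  let a : Γ(X, U) ⟶ CommRingCat.of S := CommRingCat.ofHom ((π.app U).hom.codRestrict S h1)
  let b : CommRingCat.of k ⟶ CommRingCat.of S :=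
    CommRingCat.ofHom ((kSec Xb.obj.hom hW).codRestrict S h2)
  have ha : a ≫ incl = π.appLE U W le_rfl := by rw [Scheme.Hom.appLE_eq_app]; rfl
  have hb : b ≫ incl = CommRingCat.ofHom (kSec Xb.obj.hom hW) := rfl
  have hk : Spec.map (CommRingCat.ofHom (kSec Xb.obj.hom hW)) = hW.fromSpec ≫ Xb.obj.hom := Spec.map_preimage _
  have hU' : Spec.map (π.appLE U W le_rfl) ≫ hU.fromSpec = hW.fromSpec ≫ π :=
    IsAffineOpen.SpecMap_appLE_fromSpec π hU hW le_rfl
  have : Mono incl := ConcreteCategory.mono_of_injective _ Subtype.val_injective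
  have hcomm : (Spec.map a ≫ hU.fromSpec) ≫ f = Spec.map b ≫ Spec.map (CommRingCat.ofHom (algebraMap k₀ k)) := by
    rw [Category.assoc, ← Spec.map_preimage (hU.fromSpec ≫ f), ← Spec.map_comp, ← Spec.map_comp]
    congr 1
    rw [← cancel_mono incl, Category.assoc, Category.assoc, ha, hb]
    apply Spec.map_injective
    rw [Spec.map_comp, Spec.map_comp, Spec.map_preimage, hk, ← Category.assoc, hU', Category.assoc, Category.assoc,
      hπ.w]
  let l := hπ.lift (Spec.map a ≫ hU.fromSpec) (Spec.map b) hcomm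
  have hl : Spec.map incl ≫ l = hW.fromSpec := by
    apply hπ.hom_ext
    · rw [Category.assoc, hπ.lift_fst, ← Category.assoc, ← Spec.map_comp, ha, hU']
    · rw [Category.assoc, hπ.lift_snd, ← Spec.map_comp, hb, hk]
  have hrange : Set.range l ⊆ Set.range hW.fromSpec := by
    rintro _ ⟨z, rfl⟩
    rw [hW.range_fromSpec]
    show π (l z) ∈ (U : Set X)
    rw [← Scheme.Hom.comp_apply, hπ.lift_fst, ← hU.range_fromSpec]
    exact ⟨_, rfl⟩
  let ψ := Spec.preimage (IsOpenImmersion.lift hW.fromSpec l hrange)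
  have hψ : ψ ≫ incl = 𝟙 _ := by
    apply Spec.map_injective
    rw [Spec.map_comp, Spec.map_preimage, Spec.map_id, ← cancel_mono hW.fromSpec, Category.assoc,
      IsOpenImmersion.lift_fac, hl, Category.id_comp]
  refine eq_top_iff.2 fun s _ => ?_
  have := congrArg (fun g : Γ(Xb.obj.left, W) ⟶ Γ(Xb.obj.left, W) => g.hom s) hψ
  rw [show s = incl.hom (ψ.hom s) from this.symm]
  exact Subtype.coe_prop _

end gen

section frob

variable [IsAlgClosed k] {k₀ : Type u} [Field k₀] [Algebra k₀ k]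
  {f : X ⟶ Spec (.of k₀)} {π : Xb.obj.left ⟶ X}
  (hπ : IsPullback π Xb.obj.hom f (Spec.map (CommRingCat.ofHom (algebraMap k₀ k))))
  {p e : ℕ} [Fact p.Prime] [CharP k p] {F : Xb ⟶ Xb} (hFr : IsFrob p e π F)

instance charP_residueField (x : Xb.obj.left) : CharP (Xb.obj.left.residueField x) p :=
  charP_of_injective_ringHom (kStr Xb.obj.hom x).injective p

include hπ

/-- the endomorphism of the sections over `π⁻¹U` -/
def phi (hFr : IsFrob p e π F) (U : X.Opens) :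
    Γ(Xb.obj.left, π ⁻¹ᵁ U) →+* Γ(Xb.obj.left, π ⁻¹ᵁ U) :=
  ((sm F).appLE (π ⁻¹ᵁ U) (π ⁻¹ᵁ U) (hFr.preimage_eq U).ge).hom

theorem phi_kSec {U : X.Opens} (hU : IsAffineOpen U) (c : k) :
    phi hFr U (kSec Xb.obj.hom (isAffineOpen_preimage hπ hU) c) =
      kSec Xb.obj.hom (isAffineOpen_preimage hπ hU) c := by
  have hW := isAffineOpen_preimage hπ hU
  have h : CommRingCat.ofHom (kSec Xb.obj.hom hW) ≫
      (sm F).appLE (π ⁻¹ᵁ U) (π ⁻¹ᵁ U) (hFr.preimage_eq U).ge = CommRingCat.ofHom (kSec Xb.obj.hom hW) := by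
    apply Spec.map_injective
    have hk : Spec.map (CommRingCat.ofHom (kSec Xb.obj.hom hW)) = hW.fromSpec ≫ Xb.obj.hom := Spec.map_preimage _
    rw [Spec.map_comp, hk, ← Category.assoc, IsAffineOpen.SpecMap_appLE_fromSpec (sm F) hW hW (hFr.preimage_eq U).ge,
      Category.assoc, sm_hom]
  exact congrArg (fun g : CommRingCat.of k ⟶ _ => g.hom c) h

omit hπ in
theorem residueFieldMap_evaluation {U : X.Opens} (x : Xb.obj.left) (hx : x ∈ π ⁻¹ᵁ U)
    (hFx : sm F x ∈ π ⁻¹ᵁ U) (h : π ⁻¹ᵁ U ≤ sm F ⁻¹ᵁ (π ⁻¹ᵁ U)) (s : Γ(Xb.obj.left, π ⁻¹ᵁ U)) :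
    ((sm F).residueFieldMap x).hom (Xb.obj.left.evaluation _ _ hFx s) =
      Xb.obj.left.evaluation _ x hx ((sm F).appLE _ _ h s) := by
  refine (Scheme.evaluation_naturality_apply (sm F) x hFx s).trans ?_
  rw [Scheme.Hom.appLE, CommRingCat.comp_apply, Scheme.evaluation, Scheme.evaluation, CommRingCat.comp_apply,
    CommRingCat.comp_apply, TopCat.Presheaf.germ_res_apply]

include hFr

/-- the residue field map of Frobenius has image the `p^e`-th powers -/
theorem fieldRange_residueFieldMap (x : Xb.obj.left) :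
    ((sm F).residueFieldMap x).hom.fieldRange = powSubfield p e (Xb.obj.left.residueField x) := by
  obtain ⟨U, hU, hπx, -⟩ := exists_isAffineOpen_mem_and_subset (U := ⊤) (show π x ∈ (⊤ : X.Opens) from trivial)
  have hW := isAffineOpen_preimage hπ hU
  have hx : x ∈ π ⁻¹ᵁ U := hπx
  have hFx : sm F x ∈ π ⁻¹ᵁ U := by show π (sm F x) ∈ U; rw [hFr.map_pi]; exact hπx
  let ev := (Xb.obj.left.evaluation _ x hx).hom
  let ev' := (Xb.obj.left.evaluation _ _ hFx).hom
  let r := ((sm F).residueFieldMap x).hom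
  have hr : ∀ s, r (ev' s) = ev (phi hFr U s) := fun s => residueFieldMap_evaluation x hx hFx _ s
  let σ := iterateFrobenius (Xb.obj.left.residueField x) p e
  have hph : ∀ a, phi hFr U (π.app U a) = (π.app U a) ^ p ^ e := fun a => hFr.app U _ a
  refine le_antisymm ?_ ?_
  · have htop : (powSubfield p e (Xb.obj.left.residueField x)).toSubring.comap (ev.comp (phi hFr U)) = ⊤ :=
      generated hπ hU _ (fun a => ⟨ev (π.app U a), by
        show σ _ = ev (phi hFr U _); rw [hph, map_pow]; rfl⟩) fun c => by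
        obtain ⟨c', hc'⟩ := exists_root p e k c
        refine ⟨ev (kSec Xb.obj.hom hW c'), ?_⟩
        show σ _ = ev (phi hFr U _)
        rw [phi_kSec hπ hFr hU, ← hc', map_pow, map_pow]; rfl
    rintro _ ⟨z, rfl⟩
    obtain ⟨a, b, -, rfl⟩ := evaluation_div hW hFx z
    show r (ev' a / ev' b) ∈ _
    rw [map_div₀, hr, hr]
    have hmem : ∀ s, s ∈ (powSubfield p e (Xb.obj.left.residueField x)).toSubring.comap (ev.comp (phi hFr U)) :=
      fun s => htop ▸ trivial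
    exact div_mem (hmem a) (hmem b)
  · have htop : r.fieldRange.toSubring.comap (σ.comp ev) = ⊤ :=
      generated hπ hU _ (fun a => ⟨ev' (π.app U a), by
        show r _ = σ (ev _); rw [hr, hph, map_pow]; rfl⟩) fun c => by
        refine ⟨ev' (kSec Xb.obj.hom hW (c ^ p ^ e)), ?_⟩
        show r _ = σ (ev _)
        rw [hr, phi_kSec hπ hFr hU, map_pow, map_pow]; rfl
    rintro _ ⟨z, rfl⟩
    obtain ⟨a, b, -, rfl⟩ := evaluation_div hW hx z
    show σ (ev a / ev b) ∈ _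
    rw [map_div₀]
    have hmem : ∀ s, s ∈ r.fieldRange.toSubring.comap (σ.comp ev) := fun s => htop ▸ trivial
    exact div_mem (hmem a) (hmem b)

omit hπ hFr

theorem finrank_residue_powSubfield (x : Xb.obj.left) :
    Module.finrank (powSubfield p e (Xb.obj.left.residueField x)) (Xb.obj.left.residueField x) =
      (p ^ e) ^ pdim Xb.obj.left x := by
  letI : Algebra k (Xb.obj.left.residueField x) := (kStr Xb.obj.hom x).toAlgebra
  obtain ⟨U, hU, hx, -⟩ := exists_isAffineOpen_mem_and_subset (U := ⊤) (show x ∈ (⊤ : Xb.obj.left.Opens) from trivial)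
  letI a1 : Algebra k Γ(Xb.obj.left, U) := (kSec Xb.obj.hom hU).toAlgebra
  have hft : Algebra.FiniteType k Γ(Xb.obj.left, U) := kSec_finiteType Xb.obj.hom hU
  letI a2 : Algebra Γ(Xb.obj.left, U) (Xb.obj.left.residueField x) := (Xb.obj.left.evaluation U x hx).hom.toAlgebra
  have : IsScalarTower k Γ(Xb.obj.left, U) (Xb.obj.left.residueField x) := .of_algebraMap_eq fun c => by
    show kStr Xb.obj.hom x c = _
    rw [kStr_eq Xb.obj.hom hU hx]; rfl
  have : Algebra.EssFiniteType Γ(Xb.obj.left, U) (Xb.obj.left.residueField x) := by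
    rw [Algebra.essFiniteType_iff]
    refine ⟨∅, fun z => ?_⟩
    obtain ⟨a, b, hb, hz⟩ := evaluation_div hU hx z
    refine ⟨algebraMap _ _ b, Subalgebra.algebraMap_mem _ _, isUnit_iff_ne_zero.2 hb, ?_⟩
    rw [hz]
    show Xb.obj.left.evaluation U x hx a / Xb.obj.left.evaluation U x hx b * Xb.obj.left.evaluation U x hx b ∈ _
    rw [div_mul_cancel₀ _ hb]
    exact Subalgebra.algebraMap_mem _ a
  have : Algebra.EssFiniteType k (Xb.obj.left.residueField x) := .comp k Γ(Xb.obj.left, U) _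
  exact finrank_powSubfield p e k _ _ (by
    rw [pdim_eq Xb.obj.hom]; exact tdeg_eq_natCast Xb.obj.hom x)

include hπ hFr

theorem residueDegree_frob (x : Xb.obj.left) :
    (sm F).residueDegree x = (p ^ e) ^ pdim Xb.obj.left x := by
  rw [← finrank_residue_powSubfield (p := p) (e := e) x, ← fieldRange_residueFieldMap hπ hFr x]
  letI : Algebra (Xb.obj.left.residueField (sm F x)) (Xb.obj.left.residueField x) :=
    ((sm F).residueFieldMap x).hom.toAlgebra
  let r := ((sm F).residueFieldMap x).hom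
  refine Algebra.finrank_eq_of_equiv_equiv (RingEquiv.ofBijective r.rangeRestrictField
    ⟨r.rangeRestrictField.injective, fun z => ?_⟩) (RingEquiv.refl _) rfl
  obtain ⟨_, y, rfl⟩ := z
  exact ⟨y, rfl⟩

theorem pdim_frob (x : Xb.obj.left) : pdim Xb.obj.left (sm F x) = pdim Xb.obj.left x :=
  pdim_image F x (by rw [residueDegree_frob hπ hFr x]; exact pow_ne_zero _ (pow_ne_zero _ (Nat.Prime.ne_zero Fact.out)))

theorem frob_genericPoint : sm F (genericPoint Xb.obj.left) = genericPoint Xb.obj.left := by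
  have h := pdim_frob hπ hFr (genericPoint Xb.obj.left)
  rw [pdim_gp] at h
  by_contra hne
  have hlt := TopDim50.dim_lt_of_ssubset (X := Xb.obj.left) (Y := closure ({sm F (genericPoint Xb.obj.left)} : Set Xb.obj.left))
    (by rw [(dim_eq Xb.obj.hom).1]; exact fun h => by cases h) isClosed_closure
    (fun hh => hne ((genericPoint_spec Xb.obj.left).eq (isGenericPoint_def.2 hh)).symm)
  rw [topologicalKrullDim_closure Xb.obj.hom, ← pdim_eq Xb.obj.hom, h, (dim_eq Xb.obj.hom).1, ← (dim_eq Xb.obj.hom).2] at hlt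
  exact lt_irrefl _ hlt

end frob

end Groth.Agent.WC97
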